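import Groth.Agent.Lib.Helper39.Dual.Basic

/-!
# Endomorphisms of the first vertex of a distinguished triangle
-/

set_option autoImplicit false
universe u v

namespace Groth.Agent.Lib.Helper25.SkExt

open CategoryTheory CategoryTheory.Limits CategoryTheory.Pretriangulated
open Groth.Agent.Lib.Helper39.Dual

section

variable {R : Type u} [CommRing R] {C : Type*} [Category C] [Preadditive C] [Linear R C]
  [HasShift C ℤ] [HasZeroObject C] [∀ n : ℤ, (shiftFunctor C n).Additive] [Pretriangulated C]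

/-- `u : X₁ ⟶ X₁` with `u ≫ ι = 0` vanishes when `Hom(X₁[1], Z) = 0` -/
theorem eq_zero_of_comp_mor₁ (T : Triangle C) (hT : T ∈ distTriang C)
    (o1 : ∀ f : T.obj₁⟦(1 : ℤ)⟧ ⟶ T.obj₃, f = 0) (u : T.obj₁ ⟶ T.obj₁)
    (hu : u ≫ T.mor₁ = 0) : u = 0 := by
  obtain ⟨h, hh⟩ := Triangle.coyoneda_exact₁ T hT (u⟦(1 : ℤ)⟧')
    (by rw [← Functor.map_comp, hu, Functor.map_zero])
  rw [o1 h, zero_comp] at hh
  apply (shiftFunctor C (1 : ℤ)).map_injective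
  rw [hh, Functor.map_zero]

theorem bijective_smul_id_obj₁ (T : Triangle C) (hT : T ∈ distTriang C)
    (h0 : Subsingleton (T.obj₃ ⟶ T.obj₂)) (h1 : Subsingleton (T.obj₃ ⟶ T.obj₂⟦(1 : ℤ)⟧))
    (o1 : ∀ f : T.obj₁⟦(1 : ℤ)⟧ ⟶ T.obj₃, f = 0)
    (hW : Function.Bijective (fun r : R => r • 𝟙 T.obj₂)) :
    Function.Bijective (fun r : R => r • 𝟙 T.obj₁) := by
  have hcomm : ∀ r : R, (r • 𝟙 T.obj₁) ≫ T.mor₁ = T.mor₁ ≫ (r • 𝟙 T.obj₂) := fun r => by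
    rw [Linear.smul_comp, Linear.comp_smul, Category.id_comp, Category.comp_id]
  constructor
  · intro r s hrs
    dsimp only at hrs
    apply hW.1
    dsimp only
    have h2 : T.mor₁ ≫ (r • 𝟙 T.obj₂ - s • 𝟙 T.obj₂) = 0 := by
      rw [Preadditive.comp_sub, ← hcomm, ← hcomm, hrs, sub_self]
    obtain ⟨g, hg⟩ := Triangle.yoneda_exact₂ T hT _ h2
    rw [h0.elim g 0, comp_zero] at hg
    exact sub_eq_zero.mp hg
  · intro g
    obtain ⟨ψ, hψ⟩ := exists_extension T hT T.obj₂ h1 (g ≫ T.mor₁)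
    obtain ⟨r, hr⟩ := hW.2 ψ
    dsimp only at hr
    refine ⟨r, ?_⟩
    dsimp only
    have h2 : (g - r • 𝟙 T.obj₁) ≫ T.mor₁ = 0 := by
      rw [Preadditive.sub_comp, hcomm, hr, hψ, sub_self]
    have := eq_zero_of_comp_mor₁ T hT o1 _ h2
    exact (sub_eq_zero.mp this).symm

theorem subsingleton_hom_obj₁_shift (T : Triangle C) (hT : T ∈ distTriang C)
    (h2 : Subsingleton (T.obj₃ ⟶ (T.obj₂⟦(1 : ℤ)⟧)⟦(1 : ℤ)⟧))
    (e1 : Subsingleton (T.obj₂ ⟶ T.obj₂⟦(1 : ℤ)⟧))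
    (o0 : ∀ f : T.obj₁ ⟶ T.obj₃, f = 0) :
    Subsingleton (T.obj₁ ⟶ T.obj₁⟦(1 : ℤ)⟧) := by
  apply subsingleton_of_forall_eq_zero
  intro f
  obtain ⟨ψ, hψ⟩ := exists_extension T hT (T.obj₂⟦(1 : ℤ)⟧) h2 (f ≫ T.mor₁⟦(1 : ℤ)⟧')
  rw [e1.elim ψ 0, comp_zero] at hψ
  obtain ⟨g, hg⟩ := Triangle.coyoneda_exact₁ T hT f hψ
  rw [hg, o0 g, zero_comp]

end

end Groth.Agent.Lib.Helper25.SkExt
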