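import Groth.Agent.Lib.Helper25.SkExt.HDDim
import Groth.Agent.Lib.Helper25.SkExt.TriEnd
import Groth.Agent.Lib.Helper39.Dual.OmegaDepth

/-!
# `A = End(ω_A)` for `(S₂)` and `Ext¹(ω_A, ω_A) = 0` for `(S₃)` (S18719)
-/

set_option autoImplicit false
universe u

namespace Groth.Agent.Lib.Helper25.SkExt

open CategoryTheory CategoryTheory.Limits CategoryTheory.Pretriangulated DerivedCategory
open CategoryTheory.Triangulated
open Groth.Agent.Lib.Helper84 Groth.Agent.Lib.Helper25.Bidual Groth.Agent.Lib.Helper25.LocDual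
open Groth.Agent.Lib.Helper39.Dual Groth.Agent.Lib.Helper25.DualS2

attribute [local instance] HasDerivedCategory.standard

section Transfer

variable {A : Type u} [CommRing A]

theorem bijective_smul_linearMap_id_of_iso {C : Type*} [Category C] [Preadditive C] [Linear A C]
    (F : ModuleCat.{u} A ⥤ C) [F.Additive] [F.Linear A] [F.Faithful]
    (M : ModuleCat.{u} A) {X : C} (e : F.obj M ≅ X)
    (h : Function.Bijective (fun r : A => r • 𝟙 X)) :
    Function.Bijective (fun r : A => r • (LinearMap.id : M →ₗ[A] M)) := by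
  have hconj : ∀ r : A, e.hom ≫ (r • 𝟙 X) ≫ e.inv = F.map (r • 𝟙 M) := fun r => by
    rw [Functor.map_smul, CategoryTheory.Functor.map_id, Linear.smul_comp, Linear.comp_smul,
      Category.id_comp, e.hom_inv_id]
  have hhom : ∀ r : A, (r • 𝟙 M : M ⟶ M).hom = r • (LinearMap.id : M →ₗ[A] M) := fun r => by
    rw [ModuleCat.hom_smul, ModuleCat.hom_id]
  constructor
  · intro r s hrs
    dsimp only at hrs
    apply h.1
    dsimp only
    have h1 : (r • 𝟙 M : M ⟶ M) = s • 𝟙 M := ModuleCat.hom_ext (by rw [hhom, hhom, hrs])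
    have h2 := hconj r
    rw [h1, ← hconj s] at h2
    have h3 := congrArg (fun f => e.inv ≫ f ≫ e.hom) h2
    simpa using h3
  · intro φ
    obtain ⟨r, hr⟩ := h.2 (e.inv ≫ F.map (ModuleCat.ofHom φ) ≫ e.hom)
    dsimp only at hr
    refine ⟨r, ?_⟩
    dsimp only
    have h1 : F.map (r • 𝟙 M) = F.map (ModuleCat.ofHom φ) := by
      rw [← hconj r, hr]
      simp
    have h2 := F.map_injective h1
    rw [← hhom, h2]
    rfl

end Transfer

variable {A : Type u} [CommRing A] [IsLocalRing A] [IsNoetherianRing A]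

/-- the property `Hom(X, W) = 0` -/
def PHom (W : Dual.D A) : ObjectProperty (Dual.D A) :=
  fun X => Subsingleton (X ⟶ W)

instance (W : Dual.D A) : (PHom W).IsClosedUnderIsomorphisms where
  of_iso e h := (subsingleton_hom_congr_left e).1 h

variable (ω : Dual.D A) (hω : Dual.IsDualizing A ω) (hn : Dual.IsNormalized A ω)

include hω hn in
theorem subsingleton_hom_truncGE (n : ℕ) (hd : ringKrullDim A = n)
    (hmin : ∀ q : PrimeSpectrum A, q.asIdeal ∈ minimalPrimes A → Order.coheight q = (n : ℕ∞))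
    (k : ℕ) (hSk : LocCoh.HasSk k A A) (m : ℤ) (hm : m < k) :
    Subsingleton (((TStructure.t : TStructure (Dual.D A)).truncGE (-(n : ℤ) + 1)).obj ω ⟶
      ω⟦m⟧) := by
  let t : TStructure (Dual.D A) := TStructure.t
  set a : ℤ := -(n : ℤ) with ha
  set Z := (t.truncGE (a + 1)).obj ω with hZ
  have hZGE : Z.IsGE (a + 1) := inferInstance
  have hZlow : ∀ j : ℤ, j < a + 1 → IsZero ((homologyFunctor (ModuleCat.{u} A) j).obj Z) :=
    fun j hj => isZero_of_isGE Z (a + 1) j hj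
  have hZhigh : ∀ j : ℤ, a + 1 ≤ j → ((homologyFunctor (ModuleCat.{u} A) j).obj ω ≅
      (homologyFunctor (ModuleCat.{u} A) j).obj Z) := fun j hj => by
    have := DerivedT.isIso_homologyMap_truncGEπ ω (a + 1) j hj
    exact asIso ((homologyFunctor (ModuleCat.{u} A) j).map ((t.truncGEπ (a + 1)).app ω))
  change PHom (ω⟦m⟧) Z
  refine Devissage.prop_of_bounded_homology (PHom (ω⟦m⟧))
    (fun K hK => ⟨fun f g => hK.eq_of_src f g⟩)
    (fun T hT h₁ h₃ => subsingleton_hom_obj₂ T hT _ h₁ h₃) Z (a + 1) 0 (fun i hi => ?_)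
    (fun j => ?_)
  · rcases hi with hi | hi
    · exact hZlow i hi
    · by_cases hj : a + 1 ≤ i
      · haveI := subsingleton_HD_of_pos ω hω hn i hi
        exact IsZero.of_iso (ModuleCat.isZero_of_subsingleton _) (hZhigh i hj).symm
      · exact hZlow i (by omega)
  · by_cases hj : a + 1 ≤ j
    · let M := (homologyFunctor (ModuleCat.{u} A) j).obj ω
      have h1 : Subsingleton (Dual.inD A M ⟶ ω⟦m + j⟧) :=
        subsingleton_hom_HD ω hω hn n hd hmin k hSk j (by omega) (m + j) (by omega)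
      have h2 : Subsingleton ((singleFunctor (ModuleCat.{u} A) j).obj M ⟶ ω⟦m⟧) :=
        subsingleton_hom_of_shift j
          (((DerivedCategory.singleFunctors (ModuleCat.{u} A)).shiftIso j 0 j (by simp)).app M)
          ((shiftFunctorAdd' (Dual.D A) m j (m + j) rfl).app ω).symm h1
      exact (PHom (ω⟦m⟧)).prop_of_iso
        ((singleFunctor (ModuleCat.{u} A) j).mapIso (hZhigh j hj)) h2
    · have h0 : IsZero ((singleFunctor (ModuleCat.{u} A) j).obj
          ((homologyFunctor (ModuleCat.{u} A) j).obj Z)) :=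
        Functor.map_isZero _ (hZlow j (by omega))
      exact ⟨fun f g => h0.eq_of_src f g⟩

include hω hn in
/-- the bottom truncation triangle of a normalized dualizing complex -/
theorem bottom_data (n : ℕ) (hd : ringKrullDim A = n) :
    ∃ (T : Triangle (Dual.D A)) (_ : T ∈ distTriang (Dual.D A)),
      T.obj₂ = ω ∧
      T.obj₃ = ((TStructure.t : TStructure (Dual.D A)).truncGE (-(n : ℤ) + 1)).obj ω ∧
      (∀ f : T.obj₁⟦(1 : ℤ)⟧ ⟶ T.obj₃, f = 0) ∧ (∀ f : T.obj₁ ⟶ T.obj₃, f = 0) ∧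
      Nonempty ((singleFunctor (ModuleCat.{u} A) (-(n : ℤ))).obj
        ((homologyFunctor (ModuleCat.{u} A) (-(n : ℤ))).obj ω) ≅ T.obj₁) ∧
      Nonempty ((Dual.inD A (Dual.HD A ω (-(n : ℤ))))⟦(n : ℤ)⟧ ≅ T.obj₁) := by
  let t : TStructure (Dual.D A) := TStructure.t
  set a : ℤ := -(n : ℤ) with ha
  haveI hGE : ω.IsGE a := by
    rw [isGE_iff]
    intro i hi
    haveI := subsingleton_HD_of_lt ω hω hn n hd i hi
    exact ModuleCat.isZero_of_subsingleton _
  have hT := t.triangleLTGE_distinguished (a + 1) ω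
  have hA1 : t.IsLE ((t.truncLT (a + 1)).obj ω) a := t.isLE_truncLT_obj ω (a + 1) a
  have hA2 : t.IsGE ((t.truncLT (a + 1)).obj ω) a := inferInstance
  have hZ : t.IsGE ((t.truncGE (a + 1)).obj ω) (a + 1) := inferInstance
  obtain ⟨N, ⟨eN⟩⟩ := exists_iso_singleFunctor_obj_of_isGE_of_isLE ((t.truncLT (a + 1)).obj ω) a
  have := DerivedT.isIso_homologyMap_truncLTι ω (a + 1) a (by lia)
  have e1 : (homologyFunctor (ModuleCat.{u} A) a).obj ω ≅ N :=
    (asIso ((homologyFunctor (ModuleCat.{u} A) a).map ((t.truncLTι (a + 1)).app ω))).symm ≪≫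
      (homologyFunctor (ModuleCat.{u} A) a).mapIso eN ≪≫
        (singleFunctorCompHomologyFunctorIso (ModuleCat.{u} A) a).app N
  have eX : (singleFunctor (ModuleCat.{u} A) a).obj
      ((homologyFunctor (ModuleCat.{u} A) a).obj ω) ≅ (t.truncLT (a + 1)).obj ω :=
    (singleFunctor (ModuleCat.{u} A) a).mapIso e1 ≪≫ eN.symm
  have eS : (Dual.inD A (Dual.HD A ω a))⟦(n : ℤ)⟧ ≅
      (singleFunctor (ModuleCat.{u} A) a).obj ((homologyFunctor (ModuleCat.{u} A) a).obj ω) :=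
    ((DerivedCategory.singleFunctors (ModuleCat.{u} A)).shiftIso (n : ℤ) a 0
      (by rw [ha]; omega)).app ((homologyFunctor (ModuleCat.{u} A) a).obj ω)
  refine ⟨(t.triangleLTGE (a + 1)).obj ω, hT, rfl, rfl, fun f => ?_, fun f => ?_, ⟨eX⟩,
    ⟨eS ≪≫ eX⟩⟩
  · have : t.IsLE (((t.truncLT (a + 1)).obj ω)⟦(1 : ℤ)⟧) (a - 1) :=
      t.isLE_shift ((t.truncLT (a + 1)).obj ω) a 1 (a - 1) (by lia)
    exact t.zero_of_isLE_of_isGE f (a - 1) (a + 1) (by lia) this hZ
  · exact t.zero_of_isLE_of_isGE f a (a + 1) (by lia) hA1 hZ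

include hω hn in
/-- S18719 (1): over an `(S₂)` local ring, `A ≃ End(ω_A)` -/
theorem end_omega_bijective (n : ℕ) (hd : ringKrullDim A = n) (hS2 : LocCoh.HasSk 2 A A) :
    Function.Bijective (fun r : A =>
      r • (LinearMap.id : Dual.HD A ω (-(n : ℤ)) →ₗ[A] Dual.HD A ω (-(n : ℤ)))) := by
  have hmin := coheight_minimal_of_hasSk_two ω hω hn n hd hS2
  obtain ⟨T, hT, h2, h3, o1, -, ⟨eX⟩, -⟩ := bottom_data ω hω hn n hd
  have hC : ∀ m : ℤ, m < 2 → Subsingleton (T.obj₃ ⟶ T.obj₂⟦m⟧) := fun m hm => by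
    rw [h2, h3]
    exact subsingleton_hom_truncGE ω hω hn n hd hmin 2 hS2 m (by exact_mod_cast hm)
  have h0 : Subsingleton (T.obj₃ ⟶ T.obj₂) :=
    (subsingleton_hom_congr_right ((shiftFunctorZero (Dual.D A) ℤ).app T.obj₂)).1
      (hC 0 (by norm_num))
  have hW : Function.Bijective (fun r : A => r • 𝟙 T.obj₂) := by
    rw [h2]
    exact hω.toEnd_bijective
  have hbij := bijective_smul_id_obj₁ (R := A) T hT h0 (hC 1 (by norm_num)) o1 hW
  exact bijective_smul_linearMap_id_of_iso (singleFunctor (ModuleCat.{u} A) (-(n : ℤ)))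
    ((homologyFunctor (ModuleCat.{u} A) (-(n : ℤ))).obj ω) eX hbij

include hω hn in
/-- S18719 (2): over an `(S₃)` local ring, `Ext¹(ω_A, ω_A) = 0` -/
theorem ext_one_omega_subsingleton (n : ℕ) (hd : ringKrullDim A = n)
    (hS3 : LocCoh.HasSk 3 A A) (hS2 : LocCoh.HasSk 2 A A) :
    Subsingleton (Dual.inD A (Dual.HD A ω (-(n : ℤ))) ⟶
      (Dual.inD A (Dual.HD A ω (-(n : ℤ))))⟦(1 : ℤ)⟧) := by
  have hmin := coheight_minimal_of_hasSk_two ω hω hn n hd hS2
  obtain ⟨T, hT, h2, h3, -, o0, -, ⟨eS⟩⟩ := bottom_data ω hω hn n hd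
  have hC : ∀ m : ℤ, m < 3 → Subsingleton (T.obj₃ ⟶ T.obj₂⟦m⟧) := fun m hm => by
    rw [h2, h3]
    exact subsingleton_hom_truncGE ω hω hn n hd hmin 3 hS3 m (by exact_mod_cast hm)
  have hC2 : Subsingleton (T.obj₃ ⟶ (T.obj₂⟦(1 : ℤ)⟧)⟦(1 : ℤ)⟧) :=
    (subsingleton_hom_congr_right
      ((shiftFunctorAdd' (Dual.D A) (1 : ℤ) 1 2 (by norm_num)).app T.obj₂)).1 (hC 2 (by norm_num))
  have e1 : Subsingleton (T.obj₂ ⟶ T.obj₂⟦(1 : ℤ)⟧) := by
    rw [h2]
    exact hω.ext_self_subsingleton 1 (by norm_num)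
  have hX := subsingleton_hom_obj₁_shift T hT hC2 e1 o0
  exact subsingleton_hom_of_shift (n : ℤ) eS
    (shiftComm _ (1 : ℤ) (n : ℤ) ≪≫ (shiftFunctor (Dual.D A) (1 : ℤ)).mapIso eS) hX

end Groth.Agent.Lib.Helper25.SkExt
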