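import Groth.Agent.Lib.Helper25.SkExt.Normalized
import Groth.Prelude.Def_EGA4b

/-!
# `(S_k)` for an equidimensional module in terms of `dim Supp Ext^j(M, ω)`
-/

set_option autoImplicit false
universe u

namespace Groth.Agent.Lib.Helper25.SkExt

open CategoryTheory CategoryTheory.Limits CategoryTheory.Pretriangulated DerivedCategory
open Groth.Agent.Lib.Helper84 Groth.Agent.Lib.Helper25.Bidual Groth.Agent.Lib.Helper25.LocDual
open Groth.Agent.Lib.Helper39.Dual

attribute [local instance] HasDerivedCategory.standard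

variable {A : Type u} [CommRing A] [IsLocalRing A] [IsNoetherianRing A]
  (ω : Dual.D A) (hω : Dual.IsDualizing A ω) (hn : Dual.IsNormalized A ω)
  (M : Type u) [AddCommGroup M] [Module A M] [Module.Finite A M]

include hω hn in
theorem not_mem_support_ext_of_lt (δ : ℕ) (hδ : Module.supportDim A M = δ) (i : ℤ)
    (hi : i < -(δ : ℤ)) (p : PrimeSpectrum A) :
    p ∉ Module.support A (Dual.inD A M ⟶ ω⟦i⟧) := by
  have := dimVan ω hω hn δ i hi M (le_of_eq hδ)
  rw [Module.support_eq_empty]
  exact Set.notMem_empty p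

include hω hn in
/-- for an equidimensional module the lowest `Ext` has full support -/
theorem mem_support_ext_neg_dim (hM : EGA4.IsEquidimModule A M) (δ : ℕ)
    (hδ : Module.supportDim A M = δ) (p : PrimeSpectrum A) (hp : p ∈ Module.support A M) :
    p ∈ Module.support A (Dual.inD A M ⟶ ω⟦(-(δ : ℤ))⟧) := by
  rw [Module.mem_support_iff_of_finite] at hp
  obtain ⟨q, hq, hqp⟩ := Ideal.exists_minimalPrimes_le hp
  have hqprime : q.IsPrime := hq.1.1
  let Q : PrimeSpectrum A := ⟨q, hqprime⟩
  have hQsupp : Q ∈ Module.support A M := by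
    rw [Module.mem_support_iff_of_finite]
    exact hq.1.2
  have hQdim : ringKrullDim (A ⧸ q) = (δ : WithBot ℕ∞) := by rw [hM q hq, hδ]
  obtain ⟨e, he, -, h1⟩ := pointwise_range_normalized ω hω hn M Q
  have heδ : e = δ := by
    have h2 := ringKrullDim_quotient_eq_coheight Q
    rw [he] at h2
    have h3 : ((e : ℕ∞) : WithBot ℕ∞) = ((δ : ℕ∞) : WithBot ℕ∞) := h2.symm.trans hQdim
    exact_mod_cast h3
  obtain ⟨t, δ', -, -, -, -, -, hlow⟩ := h1 (Module.mem_support_iff.mp hQsupp)
  have hδ' : δ' = 0 := by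
    by_contra hne
    exact not_mem_support_ext_of_lt ω hω hn M δ hδ _ (by omega) Q hlow
  rw [heδ, hδ'] at hlow
  have hidx : -(δ : ℤ) - ((0 : ℕ) : ℤ) = -(δ : ℤ) := by simp
  rw [hidx] at hlow
  exact Module.mem_support_mono (show Q ≤ p from hqp) hlow

end Groth.Agent.Lib.Helper25.SkExt
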