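import Groth.Agent.Lib.Helper25.SkExt.Pointwise

/-!
# Serre's condition `(S_k)` in terms of the supports of `Ext^i(M, ω)`
-/

set_option autoImplicit false
universe u

namespace Groth.Agent.Lib.Helper25.SkExt

open CategoryTheory CategoryTheory.Limits CategoryTheory.Pretriangulated DerivedCategory

attribute [local instance] HasDerivedCategory.standard

theorem min_cast_le_iff (k δ t : ℕ) :
    min (k : WithBot ℕ∞) (δ : WithBot ℕ∞) ≤ ((t : ℕ∞) : WithBot ℕ∞) ↔ min k δ ≤ t := by
  have hc : ∀ a b : ℕ, (a : WithBot ℕ∞) ≤ (b : WithBot ℕ∞) ↔ a ≤ b := fun a b => by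
    constructor
    · intro h
      have h' : ((a : ℕ∞) : WithBot ℕ∞) ≤ ((b : ℕ∞) : WithBot ℕ∞) := h
      exact_mod_cast WithBot.coe_le_coe.1 h'
    · intro h
      have h' : ((a : ℕ∞) : WithBot ℕ∞) ≤ ((b : ℕ∞) : WithBot ℕ∞) :=
        WithBot.coe_le_coe.2 (by exact_mod_cast h)
      exact h'
  have ht : ((t : ℕ∞) : WithBot ℕ∞) = (t : WithBot ℕ∞) := rfl
  rw [ht]
  rcases le_total k δ with h | h
  · rw [min_eq_left h, min_eq_left ((hc k δ).2 h)]
    exact hc k t
  · rw [min_eq_right h, min_eq_right ((hc δ k).2 h)]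
    exact hc δ t

/-- S18716 -/
theorem hasSk_iff (A : Type u) [CommRing A] [IsNoetherianRing A]
    (ω : Dual.D A) (hω : Dual.IsDualizing A ω) (M : Type u) [AddCommGroup M] [Module A M]
    [Module.Finite A M] (k : ℕ) :
    LocCoh.HasSk k A M ↔
      ∀ (i j : ℤ), j < i → ∀ p : PrimeSpectrum A,
        p ∈ Module.support A (Dual.inD A M ⟶ ω⟦i⟧) → p ∈ Module.support A (Dual.inD A M ⟶ ω⟦j⟧) →
          (((k : ℤ) + i - j).toNat : WithBot ℕ∞) ≤
            Module.supportDim (Localization.AtPrime p.asIdeal)
              (LocalizedModule p.asIdeal.primeCompl M) := by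
  constructor
  · intro h i j hji p hi hj
    obtain ⟨h0, h1⟩ := pointwise_range ω hω M p
    by_cases hsub : Subsingleton (LocalizedModule p.asIdeal.primeCompl M)
    · exact absurd hi (h0 hsub i)
    · obtain ⟨s, t, δ, ht, hδ, htδ, hrange, -, -⟩ := h1 (not_subsingleton_iff_nontrivial.mp hsub)
      have hSk := h p.asIdeal
      rw [ht, hδ] at hSk
      have hmin : min k δ ≤ t := (min_cast_le_iff k δ t).1 hSk
      obtain ⟨-, hi2⟩ := hrange i hi
      obtain ⟨hj1, -⟩ := hrange j hj
      have hlt : t < δ := by omega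
      have hkt : k ≤ t := by
        rcases le_total k δ with hkd | hkd
        · rwa [min_eq_left hkd] at hmin
        · rw [min_eq_right hkd] at hmin
          omega
      rw [hδ]
      have : ((k : ℤ) + i - j).toNat ≤ δ := by omega
      exact_mod_cast this
  · intro h p hp
    let P : PrimeSpectrum A := ⟨p, hp⟩
    obtain ⟨h0, h1⟩ := pointwise_range ω hω M P
    by_cases hsub : Subsingleton (LocalizedModule p.primeCompl M)
    · rw [Module.supportDim_eq_bot_of_subsingleton]
      exact le_trans (min_le_right _ _) bot_le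
    · obtain ⟨s, t, δ, ht, hδ, htδ, hrange, hi, hj⟩ :=
        h1 (not_subsingleton_iff_nontrivial.mp hsub)
      have ht' : LocCoh.depth (Localization.AtPrime p) (LocalizedModule p.primeCompl M) = t := ht
      have hδ' : Module.supportDim (Localization.AtPrime p) (LocalizedModule p.primeCompl M) =
          (δ : WithBot ℕ∞) := hδ
      rw [ht', hδ']
      have hgoal : min k δ ≤ t := by
        rcases eq_or_lt_of_le htδ with heq | hlt
        · rw [heq]
          exact min_le_right _ _
        · have h2 := h (s - t) (s - δ) (by omega) P hi hj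
          have hδ'' : Module.supportDim (Localization.AtPrime P.asIdeal)
              (LocalizedModule P.asIdeal.primeCompl M) = (δ : WithBot ℕ∞) := hδ
          rw [hδ''] at h2
          have h3 : ((k : ℤ) + (s - t) - (s - δ)).toNat ≤ δ := by exact_mod_cast h2
          have h4 : k ≤ t := by omega
          exact le_trans (min_le_left _ _) h4
      exact (min_cast_le_iff k δ t).2 hgoal

end Groth.Agent.Lib.Helper25.SkExt
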