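import Groth.Agent.Lib.Helper25.SkExt.Equidim
import Groth.Agent.Lib.Helper25.SkExt.SkIff
import Groth.Agent.Lib.Helper39.Dual.Basic

/-!
# `(S_k)` for an equidimensional module over a local ring with normalized dualizing complex
-/

set_option autoImplicit false
universe u

namespace Groth.Agent.Lib.Helper25.SkExt

open CategoryTheory CategoryTheory.Limits CategoryTheory.Pretriangulated DerivedCategory
open Groth.Agent.Lib.Helper84 Groth.Agent.Lib.Helper25.Bidual Groth.Agent.Lib.Helper25.LocDual
open Groth.Agent.Lib.Helper39.Dual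

attribute [local instance] HasDerivedCategory.standard

theorem supportDim_le_of_coheight_le {A : Type u} [CommRing A] [IsNoetherianRing A]
    (E : Type*) [AddCommGroup E] [Module A E] (m : ℕ)
    (h : ∀ p ∈ Module.support A E, Order.coheight p ≤ (m : ℕ∞)) :
    Module.supportDim A E ≤ (m : WithBot ℕ∞) := by
  by_cases hemp : IsEmpty (Module.support A E)
  · have : Module.supportDim A E = ⊥ := Order.krullDim_eq_bot
    rw [this]
    exact bot_le
  · haveI : Nonempty (Module.support A E) := not_isEmpty_iff.1 hemp
    change Order.krullDim (Module.support A E) ≤ _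
    rw [Order.krullDim_eq_iSup_coheight_of_nonempty]
    have h1 : (⨆ a : Module.support A E, Order.coheight a) ≤ (m : ℕ∞) := iSup_le fun a => by
      rw [coheight_subtype_of_isUpperSet _ (isUpperSet_support (A := A) E) a]
      exact h a.1 a.2
    exact_mod_cast h1

variable {A : Type u} [CommRing A] [IsLocalRing A] [IsNoetherianRing A]
  (ω : Dual.D A) (hω : Dual.IsDualizing A ω) (hn : Dual.IsNormalized A ω)
  (M : Type u) [AddCommGroup M] [Module A M] [Module.Finite A M]

include hω hn in
/-- the numerical data at a prime of the support of an equidimensional module -/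
theorem point_data (hM : EGA4.IsEquidimModule A M) (δ : ℕ)
    (hδ : Module.supportDim A M = δ) (p : PrimeSpectrum A)
    (hnt : Nontrivial (LocalizedModule p.asIdeal.primeCompl M)) :
    ∃ e t δp : ℕ, Order.coheight p = (e : ℕ∞) ∧
      LocCoh.depth (Localization.AtPrime p.asIdeal)
        (LocalizedModule p.asIdeal.primeCompl M) = t ∧
      Module.supportDim (Localization.AtPrime p.asIdeal)
        (LocalizedModule p.asIdeal.primeCompl M) = (δp : WithBot ℕ∞) ∧
      t ≤ δp ∧ e + δp = δ ∧
      (∀ i : ℤ, p ∈ Module.support A (Dual.inD A M ⟶ ω⟦i⟧) →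
        -(δ : ℤ) ≤ i ∧ i ≤ -(e : ℤ) - t) ∧
      p ∈ Module.support A (Dual.inD A M ⟶ ω⟦-(e : ℤ) - t⟧) := by
  obtain ⟨e, he, -, h1⟩ := pointwise_range_normalized ω hω hn M p
  obtain ⟨t, δp, ht, hδp, htδ, hrange, hhi, hlo⟩ := h1 hnt
  have hp : p ∈ Module.support A M := Module.mem_support_iff.mpr hnt
  have h2 := mem_support_ext_neg_dim ω hω hn M hM δ hδ p hp
  have h3 := (hrange _ h2).1
  have h4 : -(δ : ℤ) ≤ -(e : ℤ) - δp := by
    by_contra hlt
    push Not at hlt
    exact not_mem_support_ext_of_lt ω hω hn M δ hδ _ hlt p hlo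
  have heq : e + δp = δ := by omega
  refine ⟨e, t, δp, he, ht, hδp, htδ, heq, fun i hi => ⟨?_, (hrange i hi).2⟩, hhi⟩
  have := (hrange i hi).1
  omega

include hω hn in
/-- S18717 -/
theorem hasSk_iff_equidim (hM : EGA4.IsEquidimModule A M) (δ : ℕ)
    (hδ : Module.supportDim A M = δ) (k : ℕ) :
    LocCoh.HasSk k A M ↔
      ∀ j : ℤ, j ≠ -(δ : ℤ) →
        (-j - (k : ℤ) < 0 → Subsingleton (Dual.inD A M ⟶ ω⟦j⟧)) ∧
        (0 ≤ -j - (k : ℤ) → Module.supportDim A (Dual.inD A M ⟶ ω⟦j⟧) ≤
          ((-j - (k : ℤ)).toNat : WithBot ℕ∞)) := by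
  constructor
  · intro h j hj
    have key : ∀ p : PrimeSpectrum A, p ∈ Module.support A (Dual.inD A M ⟶ ω⟦j⟧) →
        ∃ e : ℕ, Order.coheight p = (e : ℕ∞) ∧ (e : ℤ) ≤ -j - k := by
      intro p hp
      by_cases hsub : Subsingleton (LocalizedModule p.asIdeal.primeCompl M)
      · obtain ⟨e, -, h0, -⟩ := pointwise_range_normalized ω hω hn M p
        exact absurd hp (h0 hsub j)
      · obtain ⟨e, t, δp, he, ht, hδp, htδ, heq, hrange, -⟩ :=
          point_data ω hω hn M hM δ hδ p (not_subsingleton_iff_nontrivial.mp hsub)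
        obtain ⟨hj1, hj2⟩ := hrange j hp
        have hSk := h p.asIdeal
        rw [ht, hδp] at hSk
        have hmin : min k δp ≤ t := (min_cast_le_iff k δp t).1 hSk
        have hlt : t < δp := by omega
        have hkt : k ≤ t := by
          rcases le_total k δp with hkd | hkd
          · rwa [min_eq_left hkd] at hmin
          · rw [min_eq_right hkd] at hmin
            omega
        exact ⟨e, he, by omega⟩
    constructor
    · intro hneg
      rw [← Module.support_eq_empty_iff (R := A), Set.eq_empty_iff_forall_notMem]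
      intro p hp
      obtain ⟨e, -, hle⟩ := key p hp
      omega
    · intro hnn
      refine supportDim_le_of_coheight_le _ _ (fun p hp => ?_)
      obtain ⟨e, he, hle⟩ := key p hp
      rw [he]
      have : e ≤ (-j - (k : ℤ)).toNat := by omega
      exact_mod_cast this
  · intro h p hp
    let P : PrimeSpectrum A := ⟨p, hp⟩
    by_cases hsub : Subsingleton (LocalizedModule p.primeCompl M)
    · rw [Module.supportDim_eq_bot_of_subsingleton]
      exact le_trans (min_le_right _ _) bot_le
    · obtain ⟨e, t, δp, he, ht, hδp, htδ, heq, hrange, hhi⟩ :=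
        point_data ω hω hn M hM δ hδ P (not_subsingleton_iff_nontrivial.mp hsub)
      have ht' : LocCoh.depth (Localization.AtPrime p) (LocalizedModule p.primeCompl M) = t := ht
      have hδ' : Module.supportDim (Localization.AtPrime p) (LocalizedModule p.primeCompl M) =
          (δp : WithBot ℕ∞) := hδp
      rw [ht', hδ']
      refine (min_cast_le_iff k δp t).2 ?_
      by_cases hj : -(e : ℤ) - t = -(δ : ℤ)
      · have : t = δp := by omega
        rw [this]
        exact min_le_right _ _
      · obtain ⟨c1, c2⟩ := h _ hj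
        have hnn : 0 ≤ -(-(e : ℤ) - t) - (k : ℤ) := by
          by_contra hneg
          push Not at hneg
          have := c1 hneg
          rw [← Module.support_eq_empty_iff (R := A)] at this
          rw [this] at hhi
          exact Set.notMem_empty P hhi
        have c3 := c2 hnn
        -- `dim A/P ≤ dim Supp E`
        have hle : ((e : ℕ∞) : WithBot ℕ∞) ≤
            Module.supportDim A (Dual.inD A M ⟶ ω⟦-(e : ℤ) - t⟧) := by
          have h1 := coheight_subtype_of_isUpperSet _
            (isUpperSet_support (A := A) (Dual.inD A M ⟶ ω⟦-(e : ℤ) - t⟧)) ⟨P, hhi⟩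
          have h2 := Order.coheight_le_krullDim
            (⟨P, hhi⟩ : Module.support A (Dual.inD A M ⟶ ω⟦-(e : ℤ) - t⟧))
          rw [h1] at h2
          have h3 : Order.coheight P = (e : ℕ∞) := he
          rw [h3] at h2
          exact h2
        have h4 := le_trans hle c3
        have h5 : e ≤ (-(-(e : ℤ) - t) - (k : ℤ)).toNat := by exact_mod_cast h4
        have h6 : k ≤ t := by omega
        exact le_trans (min_le_left _ _) h6

end Groth.Agent.Lib.Helper25.SkExt
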