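import Groth.Agent.Lib.Helper25.SkExt.HDDim
import Groth.Agent.Lib.Helper39.Dual.LocExtHD

/-!
# Dualizing complexes normalized at every maximal ideal: the global dimension function
-/

set_option autoImplicit false
universe u

namespace Groth.Agent.Lib.Helper25.SkExt

open CategoryTheory CategoryTheory.Limits CategoryTheory.Pretriangulated DerivedCategory
open Groth.Agent.Lib.Helper84 Groth.Agent.Lib.Helper25.Bidual Groth.Agent.Lib.Helper25.LocDual
open Groth.Agent.Lib.Helper39.Dual Groth.Agent.Lib.Helper25.DualS2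

attribute [local instance] HasDerivedCategory.standard

variable {A : Type u} [CommRing A]

theorem coheight_ne_top_of_dim (N : ℕ) (hd : ringKrullDim A = N) (p : PrimeSpectrum A) :
    Order.coheight p ≠ ⊤ := by
  intro htop
  have h2 := Order.coheight_le_krullDim p
  rw [htop] at h2
  have h3 : Order.krullDim (PrimeSpectrum A) = (N : WithBot ℕ∞) := hd
  rw [h3] at h2
  have h4 : ((⊤ : ℕ∞) : WithBot ℕ∞) ≤ ((N : ℕ∞) : WithBot ℕ∞) := h2
  have h5 := WithBot.coe_le_coe.1 h4
  simp at h5

theorem height_ne_top_of_dim (N : ℕ) (hd : ringKrullDim A = N) (p : PrimeSpectrum A) :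
    Order.height p ≠ ⊤ := by
  intro htop
  have h2 := Order.height_le_krullDim p
  rw [htop] at h2
  have h3 : Order.krullDim (PrimeSpectrum A) = (N : WithBot ℕ∞) := hd
  rw [h3] at h2
  have h4 : ((⊤ : ℕ∞) : WithBot ℕ∞) ≤ ((N : ℕ∞) : WithBot ℕ∞) := h2
  have h5 := WithBot.coe_le_coe.1 h4
  simp at h5

/-- a dimension function vanishing at all maximal ideals is minus the coheight -/
theorem eq_neg_coheight_global (n : PrimeSpectrum A → ℤ)
    (hcov : ∀ p q : PrimeSpectrum A, p ⋖ q → n q = n p + 1)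
    (h0 : ∀ m : PrimeSpectrum A, m.asIdeal.IsMaximal → n m = 0) :
    ∀ (e : ℕ) (q : PrimeSpectrum A), Order.coheight q = e → n q = -(e : ℤ) := by
  intro e
  induction e with
  | zero =>
    intro q hq
    rw [Nat.cast_zero, Order.coheight_eq_zero] at hq
    obtain ⟨M, hM, hqM⟩ := Ideal.exists_le_maximal q.asIdeal q.2.ne_top
    have hle : q ≤ (⟨M, hM.isPrime⟩ : PrimeSpectrum A) := hqM
    have : q = ⟨M, hM.isPrime⟩ := le_antisymm hle (hq hle)
    rw [this, h0 _ hM, Nat.cast_zero, neg_zero]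
  | succ e ih =>
    intro q hq
    rw [Nat.cast_succ] at hq
    obtain ⟨-, ⟨y, hy, hye⟩, hall⟩ := Order.coheight_eq_coe_add_one_iff.1 hq
    have hcv : q ⋖ y := by
      refine ⟨hy, fun c hqc hcy => ?_⟩
      have h1 := hall c hqc
      have h2 := Order.coheight_add_one_le hcy
      rw [hye] at h2
      have h3 : ((e : ℕ∞) + 1) ≤ e := le_trans h2 h1
      have h4 : ((e + 1 : ℕ) : ℕ∞) ≤ (e : ℕ∞) := by exact_mod_cast h3
      have h5 : e + 1 ≤ e := by exact_mod_cast h4
      omega
    have h1 := ih y hye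
    have h2 := hcov q y hcv
    rw [h1] at h2
    push_cast
    linarith

variable [IsNoetherianRing A]

/-- the local models at all primes of a dualizing complex normalized at every maximal ideal -/
theorem exists_global_model_HD (N : ℕ) (hd : ringKrullDim A = N)
    (ω : Dual.D A) (hω : Dual.IsDualizing A ω)
    (hnorm : ∀ (m : Ideal A) (_ : m.IsMaximal) (i : ℤ), i ≠ 0 →
      Subsingleton (Dual.inD A (A ⧸ m) ⟶ ω⟦i⟧)) :
    (∀ p q : PrimeSpectrum A, p ⋖ q → Order.coheight p = Order.coheight q + 1) ∧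
    ∀ (p : PrimeSpectrum A) (e : ℕ) (_ : Order.coheight p = (e : ℕ∞)),
      ∃ (_ : IsNoetherianRing (Localization.AtPrime p.asIdeal))
        (ω' : Dual.D (Localization.AtPrime p.asIdeal)),
        Dual.IsDualizing (Localization.AtPrime p.asIdeal) ω' ∧
        Dual.IsNormalized (Localization.AtPrime p.asIdeal) ω' ∧
        ∀ i : ℤ, Nonempty (LocalizedModule p.asIdeal.primeCompl (Dual.HD A ω i)
          ≃ₗ[Localization.AtPrime p.asIdeal]
            Dual.HD (Localization.AtPrime p.asIdeal) ω' (i + e)) := by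
  obtain ⟨I, a, b, hI, hz, ⟨eI⟩⟩ := exists_bounded_injective_model ω hω
  have hz' : ∀ i, (i < a ∨ max a b < i) → IsZero (I.X i) := fun i hi => by
    rcases hi with hi | hi
    · exact hz i (Or.inl hi)
    · exact hz i (Or.inr (lt_of_le_of_lt (le_max_right a b) hi))
  have hωI := isDualizing_of_iso eI.symm hω
  obtain ⟨n, hn, hcov⟩ := dimFun_model I a (max a b) (le_max_left a b) hI hz' hωI
  have h0 : ∀ m : PrimeSpectrum A, m.asIdeal.IsMaximal → n m = 0 := by
    intro m hm
    by_contra hne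
    have hs : Subsingleton (Dual.inD A (A ⧸ m.asIdeal) ⟶ (Q.obj I)⟦n m⟧) :=
      (subsingleton_hom_congr_right ((shiftFunctor (Dual.D A) _).mapIso eI.symm)).1
        (hnorm m.asIdeal hm _ hne)
    have hl : LocZero m.asIdeal.primeCompl
        (Dual.inD A (A ⧸ m.asIdeal) ⟶ (Q.obj I)⟦n m⟧) :=
      @locZero_of_subsingleton _ _ _ _ _ _ hs
    exact (hn _ _).1 hl rfl
  have hnp : ∀ (p : PrimeSpectrum A) (e : ℕ), Order.coheight p = (e : ℕ∞) → n p = -(e : ℤ) :=
    fun p e he => eq_neg_coheight_global n hcov h0 e p he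
  refine ⟨fun p q hpq => ?_, fun p e he => ?_⟩
  · obtain ⟨e1, he1⟩ := ENat.ne_top_iff_exists.mp (coheight_ne_top_of_dim N hd p)
    obtain ⟨e2, he2⟩ := ENat.ne_top_iff_exists.mp (coheight_ne_top_of_dim N hd q)
    have h1 := hnp p e1 he1.symm
    have h2 := hnp q e2 he2.symm
    have h3 := hcov p q hpq
    rw [← he1, ← he2]
    have : e1 = e2 + 1 := by omega
    rw [this]
    push_cast
    rfl
  · have hnpe := hnp p e he
    let S := p.asIdeal.primeCompl
    let B := Localization.AtPrime p.asIdeal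
    let φ : A →+* B := algebraMap A B
    have hloc : @IsLocalization A _ S B _ φ.toAlgebra := by
      have h : φ.toAlgebra = (inferInstance : Algebra A B) :=
        Algebra.algebra_ext _ _ (fun _ => rfl)
      rw [h]
      infer_instance
    have hB : Dual.IsDualizing B (Q.obj ((DTen.extCx φ).obj I)) :=
      isDualizing_ext φ S hloc I a (max a b) (le_max_left a b) hI hz' hωI
    have hBn : IsNoetherianRing B := hB.isNoetherianRing
    refine ⟨hBn, (Q.obj (JJ φ I))⟦n p⟧, Groth.Agent.Lib.Helper25.LocDual.isDualizing_shift _ hB _, ?_, ?_⟩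
    · intro i hi
      have h1 : Subsingleton (Dual.inD B (B ⧸ IsLocalRing.maximalIdeal B) ⟶
          (Q.obj (JJ φ I))⟦n p + i⟧) :=
        (locZero_hom_quot_prime_iff φ p.asIdeal hloc I a (max a b) hI hz' (n p + i)).1
          ((hn p (n p + i)).2 (by omega))
      exact (subsingleton_hom_congr_right
        ((shiftFunctorAdd' (Dual.D B) (n p) i (n p + i) rfl).app (Q.obj (JJ φ I)))).1 h1
    · intro i
      obtain ⟨e2⟩ := nonempty_HD_ext_iso φ S hloc ω I eI i
      obtain ⟨e3⟩ := nonempty_extendScalars_equiv_localizedModule p.asIdeal (Dual.HD A ω i)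
      have hidx : n p + (i + (e : ℤ)) = i := by omega
      let e4 : (homologyFunctor (ModuleCat.{u} B) (i + e)).obj ((Q.obj (JJ φ I))⟦n p⟧) ≅
          (homologyFunctor (ModuleCat.{u} B) i).obj (Q.obj (JJ φ I)) :=
        ((homologyFunctor (ModuleCat.{u} B) 0).shiftIso (n p) (i + e) i hidx).app (Q.obj (JJ φ I))
      exact ⟨e3.symm ≪≫ₗ (e4 ≪≫ e2).symm.toLinearEquiv⟩

end Groth.Agent.Lib.Helper25.SkExt
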