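import Groth.Agent.Lib.Helper25.SkExt.Global

/-!
# S18721: `(S_k)` via the supports of the cohomology of a dualizing complex normalized at every
maximal ideal, on an equidimensional ring
-/

set_option autoImplicit false
universe u

namespace Groth.Agent.Lib.Helper25.SkExt

open CategoryTheory CategoryTheory.Limits CategoryTheory.Pretriangulated DerivedCategory
open Groth.Agent.Lib.Helper84 Groth.Agent.Lib.Helper25.Bidual Groth.Agent.Lib.Helper25.LocDual
open Groth.Agent.Lib.Helper39.Dual Groth.Agent.Lib.Helper25.DualS2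

attribute [local instance] HasDerivedCategory.standard

variable {A : Type u} [CommRing A] [IsNoetherianRing A]

theorem coheight_le_height_add_coheight'
    (hcovc : ∀ p q : PrimeSpectrum A, p ⋖ q → Order.coheight p = Order.coheight q + 1) :
    ∀ (k : ℕ) (p : PrimeSpectrum A), Order.height p ≤ k →
    ∀ q : PrimeSpectrum A, q ≤ p → Order.coheight q ≤ Order.height p + Order.coheight p := by
  intro k
  induction k with
  | zero =>
    intro p hp q hqp
    have hmin : IsMin p := Order.height_eq_zero.1 (le_antisymm (by simpa using hp) bot_le)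
    have : q = p := le_antisymm hqp (hmin hqp)
    rw [this]
    exact le_add_self
  | succ k ih =>
    intro p hp q hqp
    rcases eq_or_lt_of_le hqp with heq | hlt
    · rw [heq]
      exact le_add_self
    · obtain ⟨c, hqc, hcp⟩ := exists_covBy_of_lt q p hlt
      have h1 : Order.height c + 1 ≤ Order.height p := Order.height_add_one_le hcp.lt
      have h2 : Order.height c ≤ k := by
        have h3 : Order.height c + 1 ≤ ((k + 1 : ℕ) : ℕ∞) := le_trans h1 hp
        have h4 : ((k + 1 : ℕ) : ℕ∞) = (k : ℕ∞) + 1 := by push_cast; rfl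
        rw [h4] at h3
        exact (ENat.add_le_add_iff_right ENat.one_ne_top).1 h3
      have h3 := ih c h2 q hqc
      have h4 := hcovc c p hcp
      calc Order.coheight q ≤ Order.height c + Order.coheight c := h3
        _ = Order.height c + (Order.coheight p + 1) := by rw [h4]
        _ = (Order.height c + 1) + Order.coheight p := by ring
        _ ≤ Order.height p + Order.coheight p := by gcongr

theorem height_add_coheight_eq (N : ℕ) (hd : ringKrullDim A = N) (hEq : EGA4.IsEquidim A)
    (hcovc : ∀ p q : PrimeSpectrum A, p ⋖ q → Order.coheight p = Order.coheight q + 1)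
    (p : PrimeSpectrum A) (hh e : ℕ) (hhh : Order.height p = (hh : ℕ∞))
    (he : Order.coheight p = (e : ℕ∞)) : hh + e = N := by
  have hne : Nonempty (PrimeSpectrum A) := ⟨p⟩
  have h1 : Order.height p + Order.coheight p ≤ (N : ℕ∞) := by
    have h1 : Order.krullDim (PrimeSpectrum A) =
        ↑(⨆ (a : PrimeSpectrum A), Order.height a + Order.coheight a) :=
      Order.krullDim_eq_iSup_height_add_coheight_of_nonempty
    have h2 : ((⨆ (a : PrimeSpectrum A), Order.height a + Order.coheight a : ℕ∞) : WithBot ℕ∞) =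
        ((N : ℕ∞) : WithBot ℕ∞) := by
      rw [← h1]
      exact hd
    have h3 : (⨆ (a : PrimeSpectrum A), Order.height a + Order.coheight a) = (N : ℕ∞) :=
      WithBot.coe_injective h2
    rw [← h3]
    exact le_iSup (fun a : PrimeSpectrum A => Order.height a + Order.coheight a) p
  obtain ⟨q0, hq0, hq0p⟩ := Ideal.exists_minimalPrimes_le (bot_le : (⊥ : Ideal A) ≤ p.asIdeal)
  have hq0prime : q0.IsPrime := hq0.1.1
  have hq := coheight_le_height_add_coheight' hcovc hh p (by rw [hhh])
    (⟨q0, hq0prime⟩ : PrimeSpectrum A) hq0p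
  have hq0N : Order.coheight (⟨q0, hq0prime⟩ : PrimeSpectrum A) = (N : ℕ∞) := by
    have h2 := ringKrullDim_quotient_eq_coheight (⟨q0, hq0prime⟩ : PrimeSpectrum A)
    have h3 := hEq q0 hq0
    rw [hd] at h3
    change ringKrullDim (A ⧸ q0) = _ at h2
    rw [h3] at h2
    have h4 : ((N : ℕ∞) : WithBot ℕ∞) =
        ((Order.coheight (⟨q0, hq0prime⟩ : PrimeSpectrum A) : ℕ∞) : WithBot ℕ∞) := h2
    exact (WithBot.coe_injective h4).symm
  rw [hq0N] at hq
  rw [hhh, he] at h1 hq
  have h1' : hh + e ≤ N := by exact_mod_cast h1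
  have hq'' : N ≤ hh + e := by exact_mod_cast hq
  omega

/-- S18721 -/
theorem global_main (hEq : EGA4.IsEquidim A) (N : ℕ) (hd : ringKrullDim A = N)
    (ω : Dual.D A) (hω : Dual.IsDualizing A ω)
    (hnorm : ∀ (m : Ideal A) (_ : m.IsMaximal) (i : ℤ), i ≠ 0 →
      Subsingleton (Dual.inD A (A ⧸ m) ⟶ ω⟦i⟧)) :
    (∀ i : ℕ, N < i → Subsingleton (Dual.HD A ω (-(i : ℤ)))) ∧
    ∀ k' : ℕ, 1 ≤ k' →
      (LocCoh.HasSk k' A A ↔
        ∀ i : ℕ, i ≠ N →
          (i < k' → Subsingleton (Dual.HD A ω (-(i : ℤ)))) ∧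
          (k' ≤ i → Module.supportDim A (Dual.HD A ω (-(i : ℤ))) ≤
            ((i - k' : ℕ) : WithBot ℕ∞))) := by
  obtain ⟨hcovc, hmodel⟩ := exists_global_model_HD N hd ω hω hnorm
  -- numerical data at a point of the support of `H^{-i}(ω)`
  have hpoint : ∀ (i : ℕ) (p : PrimeSpectrum A), p ∈ Module.support A (Dual.HD A ω (-(i : ℤ))) →
      ∃ (e hh t : ℕ), Order.coheight p = (e : ℕ∞) ∧ hh + e = N ∧
        ringKrullDim (Localization.AtPrime p.asIdeal) = (hh : WithBot ℕ∞) ∧
        LocCoh.depth (Localization.AtPrime p.asIdeal) (Localization.AtPrime p.asIdeal) = t ∧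
        e + t ≤ i ∧ i ≤ hh + e := by
    intro i p hp
    obtain ⟨e, he⟩ := ENat.ne_top_iff_exists.mp (coheight_ne_top_of_dim N hd p)
    obtain ⟨hh, hhh⟩ := ENat.ne_top_iff_exists.mp (height_ne_top_of_dim N hd p)
    obtain ⟨hBn, ω', hω', hn', hHD⟩ := hmodel p e he.symm
    obtain ⟨E⟩ := hHD (-(i : ℤ))
    have hnt : Nontrivial (Dual.HD (Localization.AtPrime p.asIdeal) ω' (-(i : ℤ) + e)) := by
      rw [Module.mem_support_iff] at hp
      exact E.symm.toEquiv.nontrivial
    have hBdim : ringKrullDim (Localization.AtPrime p.asIdeal) = (hh : WithBot ℕ∞) := by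
      rw [IsLocalization.AtPrime.ringKrullDim_eq_height p.asIdeal
        (Localization.AtPrime p.asIdeal), PrimeSpectrum.height_eq_orderHeight, ← hhh]
      rfl
    have hsum := height_add_coheight_eq N hd hEq hcovc p hh e hhh.symm he.symm
    obtain ⟨t, ht⟩ := ENat.ne_top_iff_exists.mp
      (Groth.Agent.Lib.Helper67.depth_ne_top (R := Localization.AtPrime p.asIdeal)
        (Localization.AtPrime p.asIdeal))
    obtain ⟨hr1, hr2⟩ := HD_range ω' hω' hn' hh hBdim t (by rw [ht]) (-(i : ℤ) + e) hnt
    exact ⟨e, hh, t, he.symm, hsum, hBdim, ht.symm, by omega, by omega⟩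
  refine ⟨fun i hi => ?_, fun k' hk' => ⟨fun hSk i hiN => ?_, fun h => ?_⟩⟩
  · rw [← Module.support_eq_empty_iff (R := A), Set.eq_empty_iff_forall_notMem]
    intro p hp
    obtain ⟨e, hh, t, -, hsum, -, -, -, hle⟩ := hpoint i p hp
    omega
  · -- `(S_k) ⇒` dimension bounds
    have key : ∀ p ∈ Module.support A (Dual.HD A ω (-(i : ℤ))),
        ∃ e : ℕ, Order.coheight p = (e : ℕ∞) ∧ e + k' ≤ i := by
      intro p hp
      obtain ⟨e, hh, t, he, hsum, hBdim, ht, h1, h2⟩ := hpoint i p hp
      refine ⟨e, he, ?_⟩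
      have hSkp := (Groth.Agent.Lib.Helper56.hasSk_self_iff k').mp hSk p.asIdeal
      rw [hBdim, ht] at hSkp
      have hmin' : min k' hh ≤ t := (min_cast_le_iff k' hh t).1 hSkp
      have hlt : t < hh := by omega
      have hkt : k' ≤ t := by
        rcases le_total k' hh with hkd | hkd
        · rwa [min_eq_left hkd] at hmin'
        · rw [min_eq_right hkd] at hmin'
          omega
      omega
    constructor
    · intro hik
      rw [← Module.support_eq_empty_iff (R := A), Set.eq_empty_iff_forall_notMem]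
      intro p hp
      obtain ⟨e, -, hle⟩ := key p hp
      omega
    · intro hki
      refine supportDim_le_of_coheight_le _ _ (fun p hp => ?_)
      obtain ⟨e, he, hle⟩ := key p hp
      rw [he]
      have : e ≤ i - k' := by omega
      exact_mod_cast this
  · -- dimension bounds `⇒ (S_k)`
    rw [Groth.Agent.Lib.Helper56.hasSk_self_iff]
    intro p hpprime
    let P : PrimeSpectrum A := ⟨p, hpprime⟩
    obtain ⟨e, he⟩ := ENat.ne_top_iff_exists.mp (coheight_ne_top_of_dim N hd P)
    obtain ⟨hh, hhh⟩ := ENat.ne_top_iff_exists.mp (height_ne_top_of_dim N hd P)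
    obtain ⟨hBn, ω', hω', hn', hHD⟩ := hmodel P e he.symm
    have hBdim : ringKrullDim (Localization.AtPrime p) = (hh : WithBot ℕ∞) := by
      rw [IsLocalization.AtPrime.ringKrullDim_eq_height p (Localization.AtPrime p)]
      have : p.height = Order.height P := PrimeSpectrum.height_eq_orderHeight P
      rw [this, ← hhh]
      rfl
    have hsum := height_add_coheight_eq N hd hEq hcovc P hh e hhh.symm he.symm
    obtain ⟨t, ht⟩ := ENat.ne_top_iff_exists.mp
      (Groth.Agent.Lib.Helper67.depth_ne_top (R := Localization.AtPrime p)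
        (Localization.AtPrime p))
    rw [hBdim, ← ht]
    refine (min_cast_le_iff k' hh t).2 ?_
    -- `p ∈ Supp H^{-(t+e)}(ω)`
    have hnt1 := nontrivial_hom_of_depth_eq ω' hω' hn' t (Localization.AtPrime p) ht.symm
    have hnt2 : Nontrivial (Dual.HD (Localization.AtPrime p) ω' (-(t : ℤ))) := by
      rw [← not_subsingleton_iff_nontrivial] at hnt1 ⊢
      exact fun h => hnt1 ((subsingleton_hom_inD_self_iff ω' _).2 h)
    have hidx : -(((t + e : ℕ) : ℤ)) + (e : ℤ) = -(t : ℤ) := by push_cast; ring
    obtain ⟨E⟩ := hHD (-(((t + e : ℕ) : ℤ)))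
    rw [hidx] at E
    have hmem : P ∈ Module.support A (Dual.HD A ω (-(((t + e : ℕ) : ℤ)))) := by
      rw [Module.mem_support_iff]
      exact E.toEquiv.nontrivial
    by_cases hiN : t + e = N
    · have : t = hh := by omega
      rw [this]
      exact min_le_right _ _
    · obtain ⟨c1, c2⟩ := h (t + e) hiN
      have hki : k' ≤ t + e := by
        by_contra hlt
        push Not at hlt
        have := c1 hlt
        rw [← Module.support_eq_empty_iff (R := A)] at this
        rw [this] at hmem
        exact Set.notMem_empty P hmem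
      have c3 := c2 hki
      have hle : ((e : ℕ∞) : WithBot ℕ∞) ≤
          Module.supportDim A (Dual.HD A ω (-(((t + e : ℕ) : ℤ)))) := by
        have h1 := coheight_subtype_of_isUpperSet _
          (isUpperSet_support (A := A) (Dual.HD A ω (-(((t + e : ℕ) : ℤ))))) ⟨P, hmem⟩
        have h2 := Order.coheight_le_krullDim
          (⟨P, hmem⟩ : Module.support A (Dual.HD A ω (-(((t + e : ℕ) : ℤ)))))
        rw [h1] at h2
        have h3 : Order.coheight P = (e : ℕ∞) := he.symm
        rw [h3] at h2
        exact h2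
      have h4 := le_trans hle c3
      have h4' : ((e : ℕ∞) : WithBot ℕ∞) ≤ (((t + e - k' : ℕ) : ℕ∞) : WithBot ℕ∞) := h4
      have h5 : e ≤ t + e - k' := by exact_mod_cast WithBot.coe_le_coe.1 h4'
      have h6 : k' ≤ t := by omega
      exact le_trans (min_le_left _ _) h6

end Groth.Agent.Lib.Helper25.SkExt
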