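import Groth.Agent.Lib.Helper25.SkExt.S2Equidim
import Groth.Agent.Lib.Helper25.SkExt.EquidimMain
import Groth.Agent.Lib.Helper39.Dual.OmegaDepth

/-!
# Dimension of the cohomology modules of a normalized dualizing complex under `(S_k)`
-/

set_option autoImplicit false
universe u

namespace Groth.Agent.Lib.Helper25.SkExt

open CategoryTheory CategoryTheory.Limits CategoryTheory.Pretriangulated DerivedCategory
open Groth.Agent.Lib.Helper84 Groth.Agent.Lib.Helper25.Bidual Groth.Agent.Lib.Helper25.LocDual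
open Groth.Agent.Lib.Helper39.Dual Groth.Agent.Lib.Helper25.DualS2

attribute [local instance] HasDerivedCategory.standard

section Range

variable {B : Type u} [CommRing B] [IsLocalRing B] [IsNoetherianRing B]
  (ω : Dual.D B) (hω : Dual.IsDualizing B ω) (hn : Dual.IsNormalized B ω)

include hω hn in
theorem HD_range (δ : ℕ) (hδ : ringKrullDim B = δ) (t : ℕ)
    (ht : (t : ℕ∞) ≤ LocCoh.depth B B) (j : ℤ) (hnt : Nontrivial (Dual.HD B ω j)) :
    -(δ : ℤ) ≤ j ∧ j ≤ -(t : ℤ) := by
  constructor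
  · by_contra hlt
    push Not at hlt
    have := subsingleton_HD_of_lt ω hω hn δ hδ j hlt
    exact not_subsingleton _ this
  · by_contra hlt
    push Not at hlt
    have h1 := vanProp ω hω hn j B t ht hlt
    have := (subsingleton_hom_inD_self_iff ω j).1 h1
    exact not_subsingleton _ this

end Range

variable {A : Type u} [CommRing A] [IsLocalRing A] [IsNoetherianRing A]
  (ω : Dual.D A) (hω : Dual.IsDualizing A ω) (hn : Dual.IsNormalized A ω)

include hω hn in
theorem coheight_le_of_mem_support_HD (n : ℕ) (hd : ringKrullDim A = n)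
    (hmin : ∀ q : PrimeSpectrum A, q.asIdeal ∈ minimalPrimes A → Order.coheight q = (n : ℕ∞))
    (k : ℕ) (hSk : LocCoh.HasSk k A A) (i : ℤ) (hi : i ≠ -(n : ℤ))
    (p : PrimeSpectrum A) (hp : p ∈ Module.support A (Dual.HD A ω i)) :
    ∃ e : ℕ, Order.coheight p = (e : ℕ∞) ∧ (e : ℤ) ≤ -i - k := by
  obtain ⟨e, he⟩ := ENat.ne_top_iff_exists.mp (coheight_ne_top p)
  obtain ⟨hh, hhh⟩ := ENat.ne_top_iff_exists.mp (height_ne_top p)
  refine ⟨e, he.symm, ?_⟩
  obtain ⟨hBn, ω', hω', hn', -, hHD⟩ := exists_local_model_HD ω hω hn p e he.symm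
  obtain ⟨E⟩ := hHD i
  have hnt : Nontrivial (Dual.HD (Localization.AtPrime p.asIdeal) ω' (i + e)) := by
    rw [Module.mem_support_iff] at hp
    exact E.symm.toEquiv.nontrivial
  have hBdim : ringKrullDim (Localization.AtPrime p.asIdeal) = (hh : WithBot ℕ∞) := by
    rw [IsLocalization.AtPrime.ringKrullDim_eq_height p.asIdeal (Localization.AtPrime p.asIdeal),
      PrimeSpectrum.height_eq_orderHeight, ← hhh]
    rfl
  -- `hh + e = n`
  have hsum : hh + e = n := by
    have h1 := height_add_coheight_le p n hd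
    obtain ⟨q0, hq0, hq0p⟩ := Ideal.exists_minimalPrimes_le (bot_le : (⊥ : Ideal A) ≤ p.asIdeal)
    have hq0prime : q0.IsPrime := hq0.1.1
    have hq := coheight_le_height_add_coheight ω hω hn hh p (by rw [← hhh])
      (⟨q0, hq0prime⟩ : PrimeSpectrum A) hq0p
    rw [hmin ⟨q0, hq0prime⟩ hq0] at hq
    rw [← hhh, ← he] at h1 hq
    have h1' : hh + e ≤ n := by exact_mod_cast h1
    have hq'' : n ≤ hh + e := by exact_mod_cast hq
    omega
  obtain ⟨t, ht⟩ := ENat.ne_top_iff_exists.mp
    (Groth.Agent.Lib.Helper67.depth_ne_top (R := Localization.AtPrime p.asIdeal)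
      (Localization.AtPrime p.asIdeal))
  obtain ⟨hr1, hr2⟩ := HD_range ω' hω' hn' hh hBdim t (by rw [ht]) (i + e) hnt
  have hSkp := (Groth.Agent.Lib.Helper56.hasSk_self_iff k).mp hSk p.asIdeal
  rw [hBdim, ← ht] at hSkp
  have hmin' : min k hh ≤ t := (min_cast_le_iff k hh t).1 hSkp
  have hlt : t < hh := by omega
  have hkt : k ≤ t := by
    rcases le_total k hh with hkd | hkd
    · rwa [min_eq_left hkd] at hmin'
    · rw [min_eq_right hkd] at hmin'
      omega
  omega

include hω hn in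
/-- `Ext^j(H^i(ω), ω) = 0` for `j < i + k` when `A` is `(S_k)` and equidimensional, `i ≠ -dim A` -/
theorem subsingleton_hom_HD (n : ℕ) (hd : ringKrullDim A = n)
    (hmin : ∀ q : PrimeSpectrum A, q.asIdeal ∈ minimalPrimes A → Order.coheight q = (n : ℕ∞))
    (k : ℕ) (hSk : LocCoh.HasSk k A A) (i : ℤ) (hi : i ≠ -(n : ℤ)) (j : ℤ) (hj : j < i + k) :
    Subsingleton (Dual.inD A (Dual.HD A ω i) ⟶ ω⟦j⟧) := by
  have hfin := hω.finite_cohomology i
  by_cases hneg : -i - (k : ℤ) < 0
  · have : Subsingleton (Dual.HD A ω i) := by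
      rw [← Module.support_eq_empty_iff (R := A), Set.eq_empty_iff_forall_notMem]
      intro p hp
      obtain ⟨e, -, hle⟩ := coheight_le_of_mem_support_HD ω hω hn n hd hmin k hSk i hi p hp
      omega
    exact subsingleton_hom_of_subsingleton _ _
  · push Not at hneg
    obtain ⟨d, hdd⟩ : ∃ d : ℕ, (d : ℤ) = -i - k := ⟨(-i - (k : ℤ)).toNat, Int.toNat_of_nonneg hneg⟩
    refine dimVan ω hω hn d j (by omega) (Dual.HD A ω i) ?_
    refine supportDim_le_of_coheight_le _ _ (fun p hp => ?_)
    obtain ⟨e, he, hle⟩ := coheight_le_of_mem_support_HD ω hω hn n hd hmin k hSk i hi p hp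
    rw [he]
    have : e ≤ d := by omega
    exact_mod_cast this

end Groth.Agent.Lib.Helper25.SkExt
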