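import Groth.Agent.Lib.Helper39.Dual.OmegaS2
import Groth.Agent.Lib.Helper25.LocDual.CMLocal

/-!
# The range of nonvanishing `Ext^i(N, ω)` over a local ring with normalized dualizing complex
-/

set_option autoImplicit false
universe u

namespace Groth.Agent.Lib.Helper25.SkExt

open CategoryTheory CategoryTheory.Limits CategoryTheory.Pretriangulated DerivedCategory
open Groth.Agent.Lib.Helper84 Groth.Agent.Lib.Helper25.Bidual Groth.Agent.Lib.Helper25.LocDual
open Groth.Agent.Lib.Helper39.Dual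

attribute [local instance] HasDerivedCategory.standard

variable {B : Type u} [CommRing B] [IsLocalRing B] [IsNoetherianRing B]
  (ω : Dual.D B) (hω : Dual.IsDualizing B ω) (hn : Dual.IsNormalized B ω)

include hω hn in
/-- `Ext^i(N, ω) ≠ 0` only for `-dim N ≤ i ≤ -depth N`, with both ends attained -/
theorem local_ext_range (N : Type u) [AddCommGroup N] [Module B N] [Module.Finite B N]
    [Nontrivial N] :
    ∃ t δ : ℕ, LocCoh.depth B N = t ∧ Module.supportDim B N = (δ : WithBot ℕ∞) ∧ t ≤ δ ∧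
      (∀ i : ℤ, Nontrivial (Dual.inD B N ⟶ ω⟦i⟧) → -(δ : ℤ) ≤ i ∧ i ≤ -(t : ℤ)) ∧
      Nontrivial (Dual.inD B N ⟶ ω⟦(-(t : ℤ))⟧) ∧ Nontrivial (Dual.inD B N ⟶ ω⟦(-(δ : ℤ))⟧) := by
  obtain ⟨t, ht⟩ := ENat.ne_top_iff_exists.mp
    (Groth.Agent.Lib.Helper67.depth_ne_top (R := B) N)
  obtain ⟨δ, hδ⟩ := Groth.Agent.Lib.Helper67.supportDim_eq_natCast (R := B) N
  have htδ : t ≤ δ := by
    have h := Groth.Agent.Lib.Helper67.depth_le_supportDim (R := B) N
    rw [hδ, ← ht] at h
    exact_mod_cast h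
  refine ⟨t, δ, ht.symm, hδ, htδ, fun i hi => ⟨?_, ?_⟩, ?_, ?_⟩
  · by_contra hlt
    push Not at hlt
    have := dimVan ω hω hn δ i hlt N (le_of_eq hδ)
    exact not_subsingleton _ this
  · by_contra hlt
    push Not at hlt
    have := vanProp ω hω hn i N t (le_of_eq ht) hlt
    exact not_subsingleton _ this
  · exact nontrivial_hom_of_depth_eq ω hω hn t N ht.symm
  · exact nontrivial_ext_neg_dim ω hω hn N δ hδ

end Groth.Agent.Lib.Helper25.SkExt
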