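import Groth.Agent.Lib.Helper25.SkExt.Pointwise
import Groth.Agent.Lib.Helper39.Dual.Catenary

/-!
# Pointwise ranges for a normalized dualizing complex over a local ring
-/

set_option autoImplicit false
universe u

namespace Groth.Agent.Lib.Helper25.SkExt

open CategoryTheory CategoryTheory.Limits CategoryTheory.Pretriangulated DerivedCategory
open Groth.Agent.Lib.Helper84 Groth.Agent.Lib.Helper25.Bidual Groth.Agent.Lib.Helper25.LocDual
open Groth.Agent.Lib.Helper39.Dual

attribute [local instance] HasDerivedCategory.standard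

/-- over a local ring with normalized dualizing complex the shift at `p` is `-dim A/p` -/
theorem pointwise_range_normalized {A : Type u} [CommRing A] [IsLocalRing A] [IsNoetherianRing A]
    (ω : Dual.D A) (hω : Dual.IsDualizing A ω) (hn : Dual.IsNormalized A ω)
    (M : Type u) [AddCommGroup M] [Module A M] [Module.Finite A M] (p : PrimeSpectrum A) :
    ∃ e : ℕ, Order.coheight p = (e : ℕ∞) ∧
    (Subsingleton (LocalizedModule p.asIdeal.primeCompl M) →
      ∀ i : ℤ, p ∉ Module.support A (Dual.inD A M ⟶ ω⟦i⟧)) ∧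
    (Nontrivial (LocalizedModule p.asIdeal.primeCompl M) →
      ∃ (t δ : ℕ),
        LocCoh.depth (Localization.AtPrime p.asIdeal)
          (LocalizedModule p.asIdeal.primeCompl M) = t ∧
        Module.supportDim (Localization.AtPrime p.asIdeal)
          (LocalizedModule p.asIdeal.primeCompl M) = (δ : WithBot ℕ∞) ∧ t ≤ δ ∧
        (∀ i : ℤ, p ∈ Module.support A (Dual.inD A M ⟶ ω⟦i⟧) →
          -(e : ℤ) - δ ≤ i ∧ i ≤ -(e : ℤ) - t) ∧
        p ∈ Module.support A (Dual.inD A M ⟶ ω⟦-(e : ℤ) - t⟧) ∧
        p ∈ Module.support A (Dual.inD A M ⟶ ω⟦-(e : ℤ) - δ⟧)) := by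
  obtain ⟨e, he⟩ := ENat.ne_top_iff_exists.mp (coheight_ne_top p)
  obtain ⟨hBn, ω', hω', hn', hiff⟩ := exists_local_model ω hω hn p e he.symm
  obtain ⟨eN⟩ := nonempty_extendScalars_equiv_localizedModule p.asIdeal M
  have key : ∀ Y : Dual.D (Localization.AtPrime p.asIdeal),
      Subsingleton (Dual.inD (Localization.AtPrime p.asIdeal)
        ((ModuleCat.extendScalars.{u, u, u}
          (algebraMap A (Localization.AtPrime p.asIdeal))).obj (ModuleCat.of A M)) ⟶ Y) ↔
        Subsingleton (Dual.inD (Localization.AtPrime p.asIdeal)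
          (LocalizedModule p.asIdeal.primeCompl M) ⟶ Y) := fun Y =>
    ⟨fun h => subsingleton_hom_of_linearEquiv Y eN.symm h,
      fun h => subsingleton_hom_of_linearEquiv Y eN h⟩
  have hmem : ∀ i : ℤ, p ∈ Module.support A (Dual.inD A M ⟶ ω⟦i⟧) ↔
      Nontrivial (Dual.inD (Localization.AtPrime p.asIdeal)
        (LocalizedModule p.asIdeal.primeCompl M) ⟶ ω'⟦i + e⟧) := by
    intro i
    rw [Module.mem_support_iff, ← not_subsingleton_iff_nontrivial,
      ← locZero_iff_subsingleton, ← not_subsingleton_iff_nontrivial]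
    exact not_congr ((hiff (ModuleCat.of A M) i).trans (key _))
  refine ⟨e, he.symm, ?_, ?_⟩
  · intro hsub i hi
    have := (hmem i).1 hi
    rw [← not_subsingleton_iff_nontrivial] at this
    exact this (subsingleton_hom_of_subsingleton _ _)
  · intro hnt
    obtain ⟨t, δ, ht, hδ, htδ, hrange, h1, h2⟩ :=
      local_ext_range ω' hω' hn' (LocalizedModule p.asIdeal.primeCompl M)
    refine ⟨t, δ, ht, hδ, htδ, fun i hi => ?_, ?_, ?_⟩
    · obtain ⟨h3, h4⟩ := hrange (i + e) ((hmem i).1 hi)
      constructor <;> omega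
    · rw [hmem]
      have : -(e : ℤ) - (t : ℤ) + e = -(t : ℤ) := by ring
      rw [this]
      exact h1
    · rw [hmem]
      have : -(e : ℤ) - (δ : ℤ) + e = -(δ : ℤ) := by ring
      rw [this]
      exact h2

end Groth.Agent.Lib.Helper25.SkExt
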