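import Groth.Agent.Lib.Helper25.DualS2.Lowest
import Groth.Prelude.Def_EGA4b

/-!
# A dualizing complex which is a module in degree `0` off a closed set of positive codimension
is ordinary
-/

set_option autoImplicit false
universe u

namespace Groth.Agent.Lib.Helper25.SkExt

open CategoryTheory CategoryTheory.Limits CategoryTheory.Pretriangulated DerivedCategory
open Groth.Agent.Lib.Helper84 Groth.Agent.Lib.Helper25.Bidual Groth.Agent.Lib.Helper25.LocDual
open Groth.Agent.Lib.Helper39.Dual Groth.Agent.Lib.Helper25.DualS2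

attribute [local instance] HasDerivedCategory.standard

variable {A : Type u} [CommRing A] [IsLocalRing A] [IsNoetherianRing A]

/-- for a normalized dualizing complex, at a minimal prime `q` the only nonvanishing localized
cohomology module is in degree `-dim A/q` -/
theorem nontrivial_localized_HD_of_minimal (ω : Dual.D A) (hω : Dual.IsDualizing A ω)
    (hn : Dual.IsNormalized A ω) (q : PrimeSpectrum A) (hq : q.asIdeal ∈ minimalPrimes A)
    (e : ℕ) (he : Order.coheight q = (e : ℕ∞)) :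
    q ∈ Module.support A (Dual.HD A ω (-(e : ℤ))) := by
  obtain ⟨hBn, ω', hω', hn', -, hHD⟩ := exists_local_model_HD ω hω hn q e he
  obtain ⟨E⟩ := hHD (-(e : ℤ))
  have hdim : ringKrullDim (Localization.AtPrime q.asIdeal) = ((0 : ℕ) : WithBot ℕ∞) := by
    rw [IsLocalization.AtPrime.ringKrullDim_eq_height q.asIdeal (Localization.AtPrime q.asIdeal),
      Ideal.height_eq_zero_iff.mpr hq]
    rfl
  have hnt := omega_nontrivial ω' hω' hn' 0 hdim
  have hidx : -(e : ℤ) + e = -((0 : ℕ) : ℤ) := by simp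
  rw [hidx] at E
  rw [Module.mem_support_iff]
  exact E.toEquiv.nontrivial

/-- S18720 -/
theorem ordinary_of_off (ω : Dual.D A) (hω : Dual.IsDualizing A ω) (n : ℕ)
    (hd : ringKrullDim A = n) (J : Ideal A) (hJ : 1 ≤ J.height)
    (hoff : ∀ p : PrimeSpectrum A, ¬ J ≤ p.asIdeal → ∀ i : ℤ, i ≠ 0 →
      p ∉ Module.support A (Dual.HD A ω i)) :
    (EGA4.IsEquidim A ∧ Dual.IsNormalized A (ω⟦(n : ℤ)⟧) ∧ LocCoh.HasSk 2 A (Dual.HD A ω 0)) ∧
    (2 ≤ J.height → 2 ≤ LocCoh.idealDepth J (Dual.HD A ω 0)) := by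
  obtain ⟨s, hs1, -⟩ := residue_main (IsLocalRing.maximalIdeal A) ω hω
  have hω' := Groth.Agent.Lib.Helper25.LocDual.isDualizing_shift ω hω s
  have eadd : ∀ i : ℤ, (ω⟦s⟧)⟦i⟧ ≅ ω⟦s + i⟧ := fun i =>
    ((shiftFunctorAdd' (Dual.D A) s i (s + i) rfl).app ω).symm
  have hnorm : Dual.IsNormalized A (ω⟦s⟧) := by
    intro i hi
    exact (subsingleton_hom_congr_right (eadd i)).2 (hs1 (s + i) (by omega))
  have eH : ∀ i j : ℤ, s + i = j → (Dual.HD A (ω⟦s⟧) i ≃ₗ[A] Dual.HD A ω j) := fun i j h =>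
    (((homologyFunctor (ModuleCat.{u} A) 0).shiftIso s i j h).app ω).toLinearEquiv
  -- minimal primes have coheight `s`
  have hmin : ∀ q : PrimeSpectrum A, q.asIdeal ∈ minimalPrimes A → ∀ e : ℕ,
      Order.coheight q = (e : ℕ∞) → (e : ℤ) = s := by
    intro q hq e he
    have hJq : ¬ J ≤ q.asIdeal := by
      intro hle
      have h1 := Ideal.height_mono hle
      rw [Ideal.height_eq_zero_iff.mpr hq] at h1
      have : (1 : ℕ∞) ≤ 0 := le_trans hJ h1
      simp at this
    have h2 := nontrivial_localized_HD_of_minimal (ω⟦s⟧) hω' hnorm q hq e he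
    rw [(eH (-(e : ℤ)) (s - e) (by ring)).support_eq] at h2
    by_contra hne
    exact hoff q hJq (s - e) (by omega) h2
  -- `s = n`
  have hsn : s = n := by
    have hnt := omega_nontrivial (ω⟦s⟧) hω' hnorm n hd
    obtain ⟨p, hp⟩ : (Module.support A (Dual.HD A (ω⟦s⟧) (-(n : ℤ)))).Nonempty := by
      rw [Set.nonempty_iff_ne_empty, Ne, Module.support_eq_empty_iff]
      exact not_subsingleton _
    rw [Module.mem_support_iff] at hp
    obtain ⟨q, hq, -, hqd⟩ := (omega_local_analysis (ω⟦s⟧) hω' hnorm n hd p).1.1 hp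
    have hqprime : q.IsPrime := hq.1.1
    have h1 := ringKrullDim_quotient_eq_coheight (⟨q, hqprime⟩ : PrimeSpectrum A)
    rw [hqd] at h1
    have h2 : Order.coheight (⟨q, hqprime⟩ : PrimeSpectrum A) = (n : ℕ∞) := by
      have h3 : ((n : ℕ∞) : WithBot ℕ∞) = ((Order.coheight (⟨q, hqprime⟩ : PrimeSpectrum A) : ℕ∞) :
          WithBot ℕ∞) := h1
      exact (WithBot.coe_injective h3).symm
    exact (hmin ⟨q, hqprime⟩ hq n h2).symm
  subst hsn
  have hEq : EGA4.IsEquidim A := by
    intro q hq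
    have hqprime : q.IsPrime := hq.1.1
    obtain ⟨e, he⟩ := ENat.ne_top_iff_exists.mp
      (coheight_ne_top (⟨q, hqprime⟩ : PrimeSpectrum A))
    have h1 := ringKrullDim_quotient_eq_coheight (⟨q, hqprime⟩ : PrimeSpectrum A)
    have h2 : e = n := by exact_mod_cast hmin ⟨q, hqprime⟩ hq e he.symm
    rw [hd]
    change ringKrullDim (A ⧸ q) = _ at h1
    rw [h1, ← he, h2]
    rfl
  have E : Dual.HD A (ω⟦(n : ℤ)⟧) (-(n : ℤ)) ≃ₗ[A] Dual.HD A ω 0 := eH _ _ (by omega)
  refine ⟨⟨hEq, hnorm, ?_⟩, fun hJ2 => ?_⟩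
  · exact Groth.Agent.Lib.Helper56.hasSk_of_equiv E 2
      (fun p hp => (omega_local_analysis (ω⟦(n : ℤ)⟧) hω' hnorm n hd ⟨p, hp⟩).2)
  · rw [← Groth.Agent.Lib.Helper56.idealDepth_congr J E]
    have := hω'.finite_cohomology (-(n : ℤ))
    rw [Groth.Agent.Lib.Helper67.idealDepth_eq_iInf_depth_localization]
    refine le_iInf₂ fun p hp => ?_
    by_cases hsub : Subsingleton
        (LocalizedModule p.asIdeal.primeCompl (Dual.HD A (ω⟦(n : ℤ)⟧) (-(n : ℤ))))
    · unfold LocCoh.depth LocCoh.idealDepth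
      rw [if_pos (Subsingleton.elim _ _)]
      exact le_top
    · have hnt := not_subsingleton_iff_nontrivial.mp hsub
      obtain ⟨hh, hhh, hge⟩ := omega_depth_loc_ge (ω⟦(n : ℤ)⟧) hω' hnorm n hd p hnt
      have h2 : 2 ≤ hh := by
        have h3 := Ideal.height_mono hp
        rw [PrimeSpectrum.height_eq_orderHeight, hhh] at h3
        have h4 : (2 : ℕ∞) ≤ (hh : ℕ∞) := le_trans hJ2 h3
        exact_mod_cast h4
      refine le_trans ?_ hge
      rw [min_eq_left h2]
      rfl

end Groth.Agent.Lib.Helper25.SkExt
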