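import Groth.Agent.Lib.Helper25.SkExt.Local
import Groth.Agent.Lib.Helper39.Dual.LocExt

/-!
# Pointwise local model of `Ext^i(M, ω)` over a Noetherian ring with a dualizing complex
-/

set_option autoImplicit false
universe u

namespace Groth.Agent.Lib.Helper25.SkExt

open CategoryTheory CategoryTheory.Limits CategoryTheory.Pretriangulated DerivedCategory
open Groth.Agent.Lib.Helper84 Groth.Agent.Lib.Helper25.Bidual Groth.Agent.Lib.Helper25.LocDual
open Groth.Agent.Lib.Helper39.Dual

attribute [local instance] HasDerivedCategory.standard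

/-- at every prime, the supports of `Ext^i(M, ω)` are computed by a normalized dualizing
complex of the local ring, up to a shift depending on the prime only -/
theorem exists_pointwise_model {A : Type u} [CommRing A] [IsNoetherianRing A]
    (ω : Dual.D A) (hω : Dual.IsDualizing A ω) (p : PrimeSpectrum A) :
    ∃ (_ : IsNoetherianRing (Localization.AtPrime p.asIdeal))
      (ω' : Dual.D (Localization.AtPrime p.asIdeal)) (s : ℤ),
      Dual.IsDualizing (Localization.AtPrime p.asIdeal) ω' ∧
      Dual.IsNormalized (Localization.AtPrime p.asIdeal) ω' ∧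
      ∀ (M : Type u) [AddCommGroup M] [Module A M] [Module.Finite A M] (i : ℤ),
        p ∈ Module.support A (Dual.inD A M ⟶ ω⟦i⟧) ↔
          Nontrivial (Dual.inD (Localization.AtPrime p.asIdeal)
            (LocalizedModule p.asIdeal.primeCompl M) ⟶ ω'⟦i - s⟧) := by
  obtain ⟨I, a, b, hI, hz, ⟨eI⟩⟩ := exists_bounded_injective_model ω hω
  have hz' : ∀ i, (i < a ∨ max a b < i) → IsZero (I.X i) := fun i hi => by
    rcases hi with hi | hi
    · exact hz i (Or.inl hi)
    · exact hz i (Or.inr (lt_of_le_of_lt (le_max_right a b) hi))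
  have hωI := isDualizing_of_iso eI.symm hω
  let S := p.asIdeal.primeCompl
  let B := Localization.AtPrime p.asIdeal
  let φ : A →+* B := algebraMap A B
  have hloc : @IsLocalization A _ S B _ φ.toAlgebra := by
    have h : φ.toAlgebra = (inferInstance : Algebra A B) :=
      Algebra.algebra_ext _ _ (fun _ => rfl)
    rw [h]
    infer_instance
  have hB : Dual.IsDualizing B (Q.obj ((DTen.extCx φ).obj I)) :=
    isDualizing_ext φ S hloc I a (max a b) (le_max_left a b) hI hz' hωI
  have hBn : IsNoetherianRing B := hB.isNoetherianRing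
  obtain ⟨s, hs1, -⟩ := residue_main (IsLocalRing.maximalIdeal B) _ hB
  have eadd : ∀ i j : ℤ, s + i = j →
      (((Q.obj (JJ φ I) : Dual.D B)⟦s⟧)⟦i⟧ ≅ (Q.obj (JJ φ I) : Dual.D B)⟦j⟧) := fun i j h =>
    ((shiftFunctorAdd' (Dual.D B) s i j h).app (Q.obj (JJ φ I))).symm
  have hnorm : Dual.IsNormalized B ((Q.obj (JJ φ I))⟦s⟧) := by
    intro i hi
    exact (subsingleton_hom_congr_right (eadd i (s + i) rfl)).2 (hs1 (s + i) (by omega))
  refine ⟨hBn, (Q.obj (JJ φ I))⟦s⟧, s,
    Groth.Agent.Lib.Helper25.LocDual.isDualizing_shift _ hB s, hnorm, ?_⟩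
  intro M _ _ _ i
  rw [Module.mem_support_iff, ← not_subsingleton_iff_nontrivial,
    ← locZero_iff_subsingleton, ← not_subsingleton_iff_nontrivial]
  apply not_congr
  have hiff : LocZero S (Dual.inD A M ⟶ ω⟦i⟧) ↔ LocZero S (Dual.inD A M ⟶ (Q.obj I)⟦i⟧) :=
    ⟨fun h => h.of_linearEquiv (Linear.homCongr A (Iso.refl _)
        ((shiftFunctor (Dual.D A) i).mapIso eI.symm)),
      fun h => h.of_linearEquiv (Linear.homCongr A (Iso.refl _)
        ((shiftFunctor (Dual.D A) i).mapIso eI))⟩
  rw [hiff]
  have h1 := locZero_hom_single_iff φ S hloc I a (max a b) hI hz' (ModuleCat.of A M) i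
  rw [h1]
  obtain ⟨eN⟩ := nonempty_extendScalars_equiv_localizedModule p.asIdeal M
  rw [subsingleton_hom_congr_right (eadd (i - s) i (by ring))]
  have key : ∀ Y : Dual.D B,
      Subsingleton (Dual.inD B ((ModuleCat.extendScalars.{u, u, u} φ).obj (ModuleCat.of A M)) ⟶ Y) ↔
        Subsingleton (Dual.inD B (LocalizedModule S M) ⟶ Y) := fun Y =>
    ⟨fun h => subsingleton_hom_of_linearEquiv Y eN.symm h,
      fun h => subsingleton_hom_of_linearEquiv Y eN h⟩
  exact key _

/-- at a prime of the support of `M`, the degrees `i` with `p ∈ Supp Ext^i(M, ω)` fill out an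
interval `[s - dim M_p, s - depth M_p]` with both ends attained -/
theorem pointwise_range {A : Type u} [CommRing A] [IsNoetherianRing A]
    (ω : Dual.D A) (hω : Dual.IsDualizing A ω) (M : Type u) [AddCommGroup M] [Module A M]
    [Module.Finite A M] (p : PrimeSpectrum A) :
    (Subsingleton (LocalizedModule p.asIdeal.primeCompl M) →
      ∀ i : ℤ, p ∉ Module.support A (Dual.inD A M ⟶ ω⟦i⟧)) ∧
    (Nontrivial (LocalizedModule p.asIdeal.primeCompl M) →
      ∃ (s : ℤ) (t δ : ℕ),
        LocCoh.depth (Localization.AtPrime p.asIdeal)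
          (LocalizedModule p.asIdeal.primeCompl M) = t ∧
        Module.supportDim (Localization.AtPrime p.asIdeal)
          (LocalizedModule p.asIdeal.primeCompl M) = (δ : WithBot ℕ∞) ∧ t ≤ δ ∧
        (∀ i : ℤ, p ∈ Module.support A (Dual.inD A M ⟶ ω⟦i⟧) → s - δ ≤ i ∧ i ≤ s - t) ∧
        p ∈ Module.support A (Dual.inD A M ⟶ ω⟦s - t⟧) ∧
        p ∈ Module.support A (Dual.inD A M ⟶ ω⟦s - δ⟧)) := by
  obtain ⟨hBn, ω', s, hω', hn', hiff⟩ := exists_pointwise_model ω hω p
  constructor
  · intro hsub i hi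
    have := (hiff M i).1 hi
    rw [← not_subsingleton_iff_nontrivial] at this
    exact this (subsingleton_hom_of_subsingleton _ _)
  · intro hnt
    obtain ⟨t, δ, ht, hδ, htδ, hrange, h1, h2⟩ :=
      local_ext_range ω' hω' hn' (LocalizedModule p.asIdeal.primeCompl M)
    refine ⟨s, t, δ, ht, hδ, htδ, fun i hi => ?_, ?_, ?_⟩
    · obtain ⟨h3, h4⟩ := hrange (i - s) ((hiff M i).1 hi)
      constructor <;> omega
    · rw [hiff M (s - t)]
      have : s - (t : ℤ) - s = -(t : ℤ) := by ring
      rw [this]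
      exact h1
    · rw [hiff M (s - δ)]
      have : s - (δ : ℤ) - s = -(δ : ℤ) := by ring
      rw [this]
      exact h2

end Groth.Agent.Lib.Helper25.SkExt
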