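import Groth.Agent.Lib.Helper25.SkExt.Ordinary
import Groth.Agent.Lib.Helper85.Reflexive
import Groth.Agent.Lib.Helper85.HomDepth
import Groth.Agent.Lib.Helper56.Serre1

/-!
# S18723: reflexivity of `H⁰(ω)` and `(S₂)` for reflexive powers
-/

set_option autoImplicit false
universe u
open CategoryTheory

namespace Groth.Agent.Lib.Helper25.SkExt

attribute [local instance] HasDerivedCategory.standard

open LocCoh

section Ring

variable {A : Type u} [CommRing A] [IsNoetherianRing A]

/-- `(S_k)` and `ht J ≥ k` imply `depth_J A ≥ k`. -/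
theorem le_idealDepth_self_of_hasSk (k : ℕ) (hS : HasSk k A A) (J : Ideal A)
    (hJ : (k : ℕ∞) ≤ J.height) : (k : ℕ∞) ≤ idealDepth J A := by
  rw [Groth.Agent.Lib.Helper67.idealDepth_eq_iInf_depth_localization]
  refine le_iInf₂ fun p hp => ?_
  have h1 := hS p.asIdeal
  rw [Groth.Agent.Lib.Helper56.supportDim_localizedModule_self,
    Module.supportDim_self_eq_ringKrullDim,
    IsLocalization.AtPrime.ringKrullDim_eq_height p.asIdeal] at h1
  have h2 : (k : ℕ∞) ≤ p.asIdeal.height := le_trans hJ (Ideal.height_mono hp)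
  have h3 : ((k : ℕ) : WithBot ℕ∞) ≤ ((p.asIdeal.height : ℕ∞) : WithBot ℕ∞) := by
    have : (((k : ℕ) : ℕ∞) : WithBot ℕ∞) ≤ ((p.asIdeal.height : ℕ∞) : WithBot ℕ∞) :=
      WithBot.coe_le_coe.2 h2
    exact this
  rw [min_eq_left h3] at h1
  have h4 : (((k : ℕ) : ℕ∞) : WithBot ℕ∞) ≤ _ := h1
  exact WithBot.coe_le_coe.1 h4

end Ring

section Local

variable (B : Type u) [CommRing B] [IsLocalRing B] [IsNoetherianRing B]

/-- the dual of any module over a local ring `B` with `depth B ≥ min(2, dim B)` has
depth at least `min(2, dim Supp)`. -/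
theorem local_dual_S2
    (hB : min ((2 : ℕ) : WithBot ℕ∞) (ringKrullDim B) ≤ ((depth B B : ℕ∞) : WithBot ℕ∞))
    (X : Type u) [AddCommGroup X] [Module B X] :
    min ((2 : ℕ) : WithBot ℕ∞) (Module.supportDim B (Module.Dual B X)) ≤
      ((depth B (Module.Dual B X) : ℕ∞) : WithBot ℕ∞) := by
  have hle : Module.supportDim B (Module.Dual B X) ≤ ringKrullDim B :=
    Module.supportDim_le_ringKrullDim _ _
  have h2 : 2 ≤ depth B B → 2 ≤ depth B (Module.Dual B X) := fun h =>
    Groth.Agent.Lib.Helper85.HomDepth.two_le_idealDepth_hom (IsLocalRing.maximalIdeal B) X B h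
  have h1 : 1 ≤ depth B B → 1 ≤ depth B (Module.Dual B X) := fun h =>
    Groth.Agent.Lib.Helper85.HomDepth.one_le_idealDepth_hom (IsLocalRing.maximalIdeal B) X B h
  generalize depth B (Module.Dual B X) = D at *
  generalize depth B B = d at *
  have hmin : min (2 : ℕ∞) d ≤ D := by
    rcases le_or_gt 2 d with h | h
    · exact le_trans (min_le_left _ _) (h2 h)
    · rw [min_eq_right h.le]
      by_cases h0 : 1 ≤ d
      · have hd1 : d ≤ 1 := by
          have hdt : d ≠ ⊤ := ne_top_of_lt h
          lift d to ℕ using hdt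
          have h' : d < 2 := by exact_mod_cast h
          have : d ≤ 1 := by omega
          exact_mod_cast this
        exact le_trans hd1 (h1 h0)
      · push Not at h0
        rw [Order.lt_one_iff] at h0
        rw [h0]
        exact zero_le
  have h3 : min ((2 : ℕ) : WithBot ℕ∞) (ringKrullDim B) ≤ (((min (2 : ℕ∞) d) : ℕ∞) : WithBot ℕ∞) := by
    rw [WithBot.coe_min]
    exact le_min (min_le_left _ _) hB
  exact le_trans (min_le_min le_rfl hle) (le_trans h3 (WithBot.coe_le_coe.2 hmin))

end Local

section Dual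

variable {A : Type u} [CommRing A] [IsNoetherianRing A]

/-- the localization of the dual is the dual of the localization -/
noncomputable def locDualEquiv (p : Ideal A) [p.IsPrime] (N : Type u) [AddCommGroup N]
    [Module A N] [Module.Finite A N] :
    LocalizedModule p.primeCompl (Module.Dual A N) ≃ₗ[Localization.AtPrime p]
      Module.Dual (Localization.AtPrime p) (LocalizedModule p.primeCompl N) :=
  LinearEquiv.extendScalarsOfIsLocalization p.primeCompl (Localization.AtPrime p)
    (IsLocalizedModule.linearEquiv p.primeCompl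
      (LocalizedModule.mkLinearMap p.primeCompl (Module.Dual A N))
      (Groth.Agent.Lib.Helper85.Reflexive.locDual p N))

/-- the dual of a finite module over an `(S₂)` ring is `(S₂)`. -/
theorem hasSk_two_dual (hS : HasSk 2 A A) (N : Type u) [AddCommGroup N] [Module A N]
    [Module.Finite A N] : HasSk 2 A (Module.Dual A N) := by
  intro p _
  rw [Groth.Agent.Lib.Helper67.depth_congr (locDualEquiv p N),
    Module.supportDim_eq_of_equiv (locDualEquiv p N)]
  apply local_dual_S2
  have h1 := hS p
  rw [Groth.Agent.Lib.Helper56.supportDim_localizedModule_self,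
    Groth.Agent.Lib.Helper56.depth_localizedModule_self,
    Module.supportDim_self_eq_ringKrullDim] at h1
  exact h1

end Dual

end Groth.Agent.Lib.Helper25.SkExt

namespace Groth.Agent.Lib.Helper25.SkExt

attribute [local instance] HasDerivedCategory.standard

section Main

variable {A : Type u} [CommRing A] [IsNoetherianRing A] [IsLocalRing A]

/-- S18723 -/
theorem refPow_main (ω : Dual.D A) (hω : Dual.IsDualizing A ω) (n : ℕ)
    (hd : ringKrullDim A = n) (J : Ideal A) (hJ : 2 ≤ J.height)
    (hoff : ∀ p : PrimeSpectrum A, ¬ J ≤ p.asIdeal →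
      (∀ i : ℤ, i ≠ 0 → p ∉ Module.support A (Dual.HD A ω i)) ∧
      Module.Free (Localization.AtPrime p.asIdeal)
        (LocalizedModule p.asIdeal.primeCompl (Dual.HD A ω 0)) ∧
      Module.finrank (Localization.AtPrime p.asIdeal)
        (LocalizedModule p.asIdeal.primeCompl (Dual.HD A ω 0)) = 1) :
    (LocCoh.HasSk 1 A A →
      (EGA4.IsEquidim A ∧ Dual.IsNormalized A (ω⟦(n : ℤ)⟧)) ∧
      Module.IsReflexive A (Dual.HD A ω 0) ∧ LocCoh.HasSk 2 A (Dual.HD A ω 0)) ∧
    (LocCoh.HasSk 2 A A → ∀ m : ℕ,
      LocCoh.HasSk 2 A (Module.Dual A (Module.Dual A (TensorPower A m (Dual.HD A ω 0)))) ∧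
      2 ≤ LocCoh.idealDepth J
        (Module.Dual A (Module.Dual A (TensorPower A m (Dual.HD A ω 0))))) := by
  have hJ1 : 1 ≤ J.height := le_trans (by norm_num) hJ
  obtain ⟨⟨heq, hnorm, hS2L⟩, hdep⟩ :=
    ordinary_of_off ω hω n hd J hJ1 (fun p hp => (hoff p hp).1)
  have hfin : Module.Finite A (Dual.HD A ω 0) := hω.finite_cohomology 0
  refine ⟨fun hS1 => ⟨⟨heq, hnorm⟩, ?_, hS2L⟩, fun hS2 m => ⟨?_, ?_⟩⟩
  · apply Groth.Agent.Lib.Helper85.Reflexive.isReflexive_of_depth (Dual.HD A ω 0) J
    · have := le_idealDepth_self_of_hasSk 1 hS1 J (by exact_mod_cast hJ1)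
      exact_mod_cast this
    · intro p hp
      obtain ⟨-, hfree, -⟩ := hoff p hp
      have hfin' : Module.Finite (Localization.AtPrime p.asIdeal)
          (LocalizedModule p.asIdeal.primeCompl (Dual.HD A ω 0)) :=
        inferInstanceAs (Module.Finite (Localization p.asIdeal.primeCompl)
          (LocalizedModule p.asIdeal.primeCompl (Dual.HD A ω 0)))
      exact Module.IsReflexive.of_finite_of_free _ _
    · exact hdep hJ
  · exact hasSk_two_dual hS2 _
  · have := le_idealDepth_self_of_hasSk 2 hS2 J (by exact_mod_cast hJ)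
    exact Groth.Agent.Lib.Helper85.HomDepth.two_le_idealDepth_hom J _ A (by exact_mod_cast this)

end Main

end Groth.Agent.Lib.Helper25.SkExt
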