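import Groth.Agent.Lib.Helper25.SkExt.Ordinary
import Groth.Agent.Lib.Helper85.Hartshorne
import Groth.Agent.Lib.Helper56.Serre1
import Groth.Agent.Lib.Helper39.Dual.Catenary

/-!
# A local `(S₂)` ring with a dualizing complex is equidimensional
-/

set_option autoImplicit false
universe u

namespace Groth.Agent.Lib.Helper25.SkExt

open CategoryTheory CategoryTheory.Limits CategoryTheory.Pretriangulated DerivedCategory
open Groth.Agent.Lib.Helper84 Groth.Agent.Lib.Helper25.Bidual Groth.Agent.Lib.Helper25.LocDual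
open Groth.Agent.Lib.Helper39.Dual Groth.Agent.Lib.Helper25.DualS2

attribute [local instance] HasDerivedCategory.standard

theorem connectedSpace_of_isLocalRing (A : Type u) [CommRing A] [IsLocalRing A] :
    ConnectedSpace (PrimeSpectrum A) := by
  have hm : ∀ x : PrimeSpectrum A, IsLocalRing.closedPoint A ∈ closure {x} := fun x => by
    rw [← specializes_iff_mem_closure, ← PrimeSpectrum.le_iff_specializes]
    exact IsLocalRing.le_maximalIdeal x.2.ne_top
  refine { isPreconnected_univ := ?_, toNonempty := ⟨IsLocalRing.closedPoint A⟩ }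
  apply isPreconnected_of_forall (IsLocalRing.closedPoint A)
  intro y _
  exact ⟨closure {y}, Set.subset_univ _, hm y, subset_closure rfl,
    isPreconnected_singleton.closure⟩

variable {A : Type u} [CommRing A] [IsLocalRing A] [IsNoetherianRing A]
  (ω : Dual.D A) (hω : Dual.IsDualizing A ω) (hn : Dual.IsNormalized A ω)

omit [IsLocalRing A] in
theorem covBy_of_height_le_one (p Q : PrimeSpectrum A) (hlt : p < Q)
    (hQ : Order.height Q ≤ 1) : p ⋖ Q := by
  refine ⟨hlt, fun c hpc hcQ => ?_⟩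
  have hfin : ∀ x : PrimeSpectrum A, Order.height x < ⊤ := fun x => by
    rw [lt_top_iff_ne_top, ← PrimeSpectrum.height_eq_orderHeight]
    exact Ideal.height_ne_top x.2.ne_top
  have h1 := Order.height_strictMono hpc (hfin p)
  have h2 := Order.height_strictMono hcQ (hfin c)
  have h3 : (1 : ℕ∞) ≤ Order.height c := Order.one_le_iff_pos.mpr (lt_of_le_of_lt bot_le h1)
  have h4 : Order.height c < 1 := lt_of_lt_of_le h2 hQ
  exact absurd h3 (not_le.mpr h4)

include hω hn in
theorem coheight_eq_of_adj (hS2 : LocCoh.HasSk 2 A A) (p q : PrimeSpectrum A)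
    (hp : p.asIdeal ∈ minimalPrimes A) (hq : q.asIdeal ∈ minimalPrimes A)
    (Q : PrimeSpectrum A) (hpQ : p ≤ Q) (hqQ : q ≤ Q)
    (hdepth : ¬ (2 : ℕ∞) ≤ LocCoh.depth (Localization.AtPrime Q.asIdeal)
      (Localization.AtPrime Q.asIdeal)) : Order.coheight p = Order.coheight q := by
  by_cases hpq : p = q
  · rw [hpq]
  have hQ1 : Order.height Q ≤ 1 := by
    by_contra hcon
    push Not at hcon
    have h2 : (2 : ℕ∞) ≤ Order.height Q := by
      have := Order.add_one_le_of_lt hcon
      simpa [one_add_one_eq_two] using this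
    have h1 := (Groth.Agent.Lib.Helper56.hasSk_self_iff 2).mp hS2 Q.asIdeal
    rw [IsLocalization.AtPrime.ringKrullDim_eq_height Q.asIdeal,
      PrimeSpectrum.height_eq_orderHeight] at h1
    have h3 : ((2 : ℕ) : WithBot ℕ∞) ≤ ((Order.height Q : ℕ∞) : WithBot ℕ∞) := by
      have : (((2 : ℕ) : ℕ∞) : WithBot ℕ∞) ≤ ((Order.height Q : ℕ∞) : WithBot ℕ∞) :=
        WithBot.coe_le_coe.2 (by exact_mod_cast h2)
      exact this
    rw [min_eq_left h3] at h1
    have h4 : (((2 : ℕ) : ℕ∞) : WithBot ℕ∞) ≤ _ := h1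
    exact hdepth (by exact_mod_cast WithBot.coe_le_coe.1 h4)
  have hpQ' : p < Q := lt_of_le_of_ne hpQ (by
    rintro rfl
    exact hpq (PrimeSpectrum.ext (le_antisymm (hp.2 ⟨q.2, bot_le⟩ hqQ) hqQ)))
  have hqQ' : q < Q := lt_of_le_of_ne hqQ (by
    rintro rfl
    exact hpq (PrimeSpectrum.ext (le_antisymm hpQ (hq.2 ⟨p.2, bot_le⟩ hpQ))))
  rw [coheight_covBy ω hω hn p Q (covBy_of_height_le_one p Q hpQ' hQ1),
    coheight_covBy ω hω hn q Q (covBy_of_height_le_one q Q hqQ' hQ1)]

include hω hn in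
/-- over a local `(S₂)` ring with normalized dualizing complex, every minimal prime has
coheight `dim A` -/
theorem coheight_minimal_of_hasSk_two (n : ℕ) (hd : ringKrullDim A = n)
    (hS2 : LocCoh.HasSk 2 A A) (q : PrimeSpectrum A) (hq : q.asIdeal ∈ minimalPrimes A) :
    Order.coheight q = (n : ℕ∞) := by
  have hnt := omega_nontrivial ω hω hn n hd
  obtain ⟨p, hp⟩ : (Module.support A (Dual.HD A ω (-(n : ℤ)))).Nonempty := by
    rw [Set.nonempty_iff_ne_empty, Ne, Module.support_eq_empty_iff]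
    exact not_subsingleton _
  rw [Module.mem_support_iff] at hp
  obtain ⟨q0, hq0, -, hqd⟩ := (omega_local_analysis ω hω hn n hd p).1.1 hp
  have hq0prime : q0.IsPrime := hq0.1.1
  have h1 := ringKrullDim_quotient_eq_coheight (⟨q0, hq0prime⟩ : PrimeSpectrum A)
  rw [hqd] at h1
  have h2 : Order.coheight (⟨q0, hq0prime⟩ : PrimeSpectrum A) = (n : ℕ∞) := by
    have h3 : ((n : ℕ∞) : WithBot ℕ∞) =
        ((Order.coheight (⟨q0, hq0prime⟩ : PrimeSpectrum A) : ℕ∞) : WithBot ℕ∞) := h1
    exact (WithBot.coe_injective h3).symm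
  have := connectedSpace_of_isLocalRing A
  have hchain := Groth.Agent.Lib.Helper85.Hartshorne.reflTransGen_adj q0 q.asIdeal hq0 hq
  have key : ∀ c : Ideal A,
      Relation.ReflTransGen (Groth.Agent.Lib.Helper85.Hartshorne.Adj A) q0 c →
      c ∈ minimalPrimes A ∧ ∀ hc : c.IsPrime,
        Order.coheight (⟨c, hc⟩ : PrimeSpectrum A) = (n : ℕ∞) := by
    intro c hc
    induction hc with
    | refl => exact ⟨hq0, fun _ => h2⟩
    | @tail b c _ hbc ih =>
      obtain ⟨hbmin, hb⟩ := ih
      obtain ⟨hcmin, Q, hQ, hbQ, hcQ, hdepth⟩ := hbc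
      refine ⟨hcmin, fun hc => ?_⟩
      rw [← hb hbmin.1.1]
      exact (coheight_eq_of_adj ω hω hn hS2 ⟨b, hbmin.1.1⟩ ⟨c, hc⟩ hbmin hcmin ⟨Q, hQ⟩
        hbQ hcQ hdepth).symm
  exact (key q.asIdeal hchain).2 q.2

include hω hn in
/-- a local `(S₂)` ring with a dualizing complex is equidimensional -/
theorem isEquidim_of_hasSk_two (n : ℕ) (hd : ringKrullDim A = n)
    (hS2 : LocCoh.HasSk 2 A A) : EGA4.IsEquidim A := by
  intro q hq
  have hqprime : q.IsPrime := hq.1.1
  have h1 := ringKrullDim_quotient_eq_coheight (⟨q, hqprime⟩ : PrimeSpectrum A)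
  have h2 := coheight_minimal_of_hasSk_two ω hω hn n hd hS2 ⟨q, hqprime⟩ hq
  rw [hd]
  change ringKrullDim (A ⧸ q) = _ at h1
  rw [h1, h2]
  rfl

end Groth.Agent.Lib.Helper25.SkExt
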