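import Groth.Agent.Lib.Helper25.SkExt.Pointwise
import Groth.Agent.Lib.Helper80.SnOpen
import Groth.Agent.Lib.Helper39.Dual.Basic

/-!
# Openness of the `(S_k)`-locus of a finite module over a ring with a dualizing complex
-/

set_option autoImplicit false
universe u

namespace Groth.Agent.Lib.Helper25.SkExt

open CategoryTheory CategoryTheory.Limits CategoryTheory.Pretriangulated DerivedCategory
open Groth.Agent.Lib.Helper80.SnOpen

attribute [local instance] HasDerivedCategory.standard

variable (A : Type u) [CommRing A] [IsNoetherianRing A]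
  (ω : Dual.D A) (hω : Dual.IsDualizing A ω) (M : Type u) [AddCommGroup M] [Module A M]
  [Module.Finite A M]

include hω in
theorem isClosed_support_ext (i : ℤ) :
    IsClosed (Module.support A (Dual.inD A M ⟶ ω⟦i⟧)) := by
  have := Groth.Agent.Lib.Helper39.Dual.finite_hom ω hω M i
  rw [Module.support_eq_zeroLocus]
  exact PrimeSpectrum.isClosed_zeroLocus _

include hω in
/-- the codepth loci are open -/
theorem isOpen_codepth_le (k : ℕ) :
    IsOpen {x : PrimeSpectrum A | sd M x ≤ ((dp M x : ℕ∞) : WithBot ℕ∞) + (k : WithBot ℕ∞)} := by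
  classical
  obtain ⟨a, b, hab⟩ := hω.finite_injective_dimension
  let T : Set (PrimeSpectrum A) := ⋃ i ∈ Finset.Icc a b, ⋃ j ∈ Finset.Icc a b,
    if (k : ℤ) < i - j then
      Module.support A (Dual.inD A M ⟶ ω⟦i⟧) ∩ Module.support A (Dual.inD A M ⟶ ω⟦j⟧)
    else ∅
  have hT : IsClosed T := by
    refine isClosed_biUnion_finset (fun i _ => isClosed_biUnion_finset (fun j _ => ?_))
    split_ifs
    · exact (isClosed_support_ext A ω hω M i).inter (isClosed_support_ext A ω hω M j)
    · exact isClosed_empty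
  have hmemT : ∀ x, x ∈ T ↔ ∃ i j : ℤ, (k : ℤ) < i - j ∧
      x ∈ Module.support A (Dual.inD A M ⟶ ω⟦i⟧) ∧
      x ∈ Module.support A (Dual.inD A M ⟶ ω⟦j⟧) := by
    intro x
    have hrange : ∀ i : ℤ, x ∈ Module.support A (Dual.inD A M ⟶ ω⟦i⟧) → i ∈ Finset.Icc a b := by
      intro i hi
      rw [Finset.mem_Icc]
      by_contra hcon
      have : Subsingleton (Dual.inD A M ⟶ ω⟦i⟧) := hab M i (by omega)
      rw [Module.mem_support_iff] at hi
      have h0 : Subsingleton (LocalizedModule x.asIdeal.primeCompl (Dual.inD A M ⟶ ω⟦i⟧)) := by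
        rw [LocalizedModule.subsingleton_iff]
        intro m
        exact ⟨1, Submonoid.one_mem _, by rw [Subsingleton.elim m 0, smul_zero]⟩
      exact not_subsingleton _ h0
    simp only [T, Set.mem_iUnion]
    constructor
    · rintro ⟨i, _, j, _, hx⟩
      split_ifs at hx with hk
      · exact ⟨i, j, hk, hx.1, hx.2⟩
      · exact absurd hx (Set.notMem_empty x)
    · rintro ⟨i, j, hk, hi, hj⟩
      refine ⟨i, hrange i hi, j, hrange j hj, ?_⟩
      rw [if_pos hk]
      exact ⟨hi, hj⟩
  have heq : {x : PrimeSpectrum A | sd M x ≤ ((dp M x : ℕ∞) : WithBot ℕ∞) + (k : WithBot ℕ∞)} =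
      Tᶜ := by
    ext x
    simp only [Set.mem_setOf_eq, Set.mem_compl_iff]
    rw [hmemT]
    obtain ⟨h0, h1⟩ := pointwise_range ω hω M x
    by_cases hsub : Subsingleton (LocalizedModule x.asIdeal.primeCompl M)
    · constructor
      · rintro - ⟨i, j, -, hi, -⟩
        exact h0 hsub i hi
      · intro _
        have : sd M x = ⊥ := Module.supportDim_eq_bot_of_subsingleton _ _
        rw [this]
        exact bot_le
    · obtain ⟨s, t, δ, ht, hδ, htδ, hrange, hi, hj⟩ :=
        h1 (not_subsingleton_iff_nontrivial.mp hsub)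
      have hsd : sd M x = (δ : WithBot ℕ∞) := hδ
      have hdp : dp M x = (t : ℕ∞) := ht
      rw [hsd, hdp]
      have hcast : ((δ : WithBot ℕ∞) ≤ (((t : ℕ) : ℕ∞) : WithBot ℕ∞) + (k : WithBot ℕ∞)) ↔
          δ ≤ t + k := by
        constructor
        · intro h
          exact_mod_cast h
        · intro h
          exact_mod_cast h
      rw [hcast]
      constructor
      · rintro hle ⟨i, j, hk, hi', hj'⟩
        obtain ⟨-, hi2⟩ := hrange i hi'
        obtain ⟨hj1, -⟩ := hrange j hj'
        omega
      · intro hno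
        by_contra hlt
        exact hno ⟨s - t, s - δ, by omega, hi, hj⟩
  rw [heq]
  exact hT.isOpen_compl

include hω in
/-- S18715 -/
theorem isOpen_hasSkAt (k : ℕ) :
    IsOpen {p : PrimeSpectrum A | EGA4.HasSkAt k A M p.asIdeal} :=
  isOpen_hasSkAt_of_codepth M k (fun k' => isOpen_codepth_le A ω hω M k')

end Groth.Agent.Lib.Helper25.SkExt
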